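import Mathlib
import Cfsg.Prelude.Def_Sporadic_a

set_option autoImplicit false

/-! Counting in Steiner systems: blocks through a set, and the intersection triangle. -/

namespace Cfsg.Agent.Steiner

open Finset

variable {α : Type*} [Fintype α] [DecidableEq α]

/-- The blocks of a family of subsets, as a `Finset`. -/
noncomputable def blocksOf (B : Set (Finset α)) : Finset (Finset α) := (Set.toFinite B).toFinset

@[simp] theorem mem_blocksOf {B : Set (Finset α)} {b : Finset α} : b ∈ blocksOf B ↔ b ∈ B := by
  simp [blocksOf]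

theorem card_blocksOf_eq (B : Set (Finset α)) [Fintype B] :
    (blocksOf B).card = Fintype.card B :=
  (Fintype.card_of_finset' _ (fun _ => mem_blocksOf)).symm

/-- The blocks through a set of points. -/
noncomputable def blocksThru (B : Set (Finset α)) (s : Finset α) : Finset (Finset α) :=
  (blocksOf B).filter (fun b => s ⊆ b)

@[simp] theorem mem_blocksThru {B : Set (Finset α)} {s b : Finset α} :
    b ∈ blocksThru B s ↔ b ∈ B ∧ s ⊆ b := by
  simp [blocksThru]

/-- Subsets of size `t` between `s` and `u`. -/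
theorem card_between {s u : Finset α} (hsu : s ⊆ u) {t : ℕ} (hst : s.card ≤ t) :
    ((u.powersetCard t).filter (fun T => s ⊆ T)).card
      = (u.card - s.card).choose (t - s.card) := by
  rw [← card_sdiff_of_subset hsu, ← card_powersetCard]
  refine card_nbij' (fun T => T \ s) (fun R => R ∪ s) ?_ ?_ ?_ ?_
  · intro T hT
    simp only [mem_coe, mem_filter, mem_powersetCard] at hT ⊢
    exact ⟨sdiff_subset_sdiff hT.1.1 le_rfl, by rw [card_sdiff_of_subset hT.2, hT.1.2]⟩
  · intro R hR
    simp only [mem_coe, mem_filter, mem_powersetCard, subset_sdiff] at hR ⊢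
    refine ⟨⟨union_subset hR.1.1 hsu, ?_⟩, subset_union_right⟩
    rw [card_union_of_disjoint hR.1.2, hR.2]
    omega
  · intro T hT
    simp only [mem_coe, mem_filter, mem_powersetCard] at hT
    exact sdiff_union_of_subset hT.2
  · intro R hR
    simp only [mem_coe, mem_powersetCard, subset_sdiff] at hR
    simp [union_sdiff_right, sdiff_eq_self_of_disjoint hR.1.2]

variable {t k : ℕ} {B : Set (Finset α)}

theorem card_blocksThru_mul (hB : Cfsg.IsSteinerSystem t k B) {s : Finset α} (hs : s.card ≤ t) :
    (blocksThru B s).card * (k - s.card).choose (t - s.card)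
      = (Fintype.card α - s.card).choose (t - s.card) := by
  classical
  rw [← card_univ, ← card_between (subset_univ s) hs]
  have hU : ((univ : Finset α).powersetCard t).filter (fun T => s ⊆ T)
      = (blocksThru B s).biUnion (fun b => (b.powersetCard t).filter (fun T => s ⊆ T)) := by
    ext T
    simp only [mem_filter, mem_powersetCard, subset_univ, true_and, mem_biUnion, mem_blocksThru]
    constructor
    · rintro ⟨hT, hsT⟩
      obtain ⟨b, ⟨hb, hTb⟩, -⟩ := hB.2 T hT
      exact ⟨b, ⟨hb, hsT.trans hTb⟩, ⟨hTb, hT⟩, hsT⟩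
    · rintro ⟨b, _, ⟨_, hT⟩, hsT⟩
      exact ⟨hT, hsT⟩
  rw [hU, card_biUnion, sum_const_nat]
  · intro b hb
    rw [mem_blocksThru] at hb
    rw [card_between hb.2 hs, hB.1 b hb.1]
  · intro b hb c hc hbc
    rw [Function.onFun, disjoint_left]
    intro T hT hT'
    simp only [mem_filter, mem_powersetCard] at hT hT'
    rw [mem_coe, mem_blocksThru] at hb hc
    exact hbc ((hB.2 T hT.1.2).unique ⟨hb.1, hT.1.1⟩ ⟨hc.1, hT'.1.1⟩)

theorem card_blocksThru_eq (hB : Cfsg.IsSteinerSystem t k B) {s : Finset α} {j : ℕ}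
    (hj : s.card = j) {v : ℕ} (hv : Fintype.card α = v) (c : ℕ) (hjt : j ≤ t)
    (hpos : 0 < (k - j).choose (t - j))
    (hc : c * (k - j).choose (t - j) = (v - j).choose (t - j)) :
    (blocksThru B s).card = c := by
  subst hj
  have h := card_blocksThru_mul hB hjt
  rw [hv, ← hc] at h
  exact Nat.eq_of_mul_eq_mul_right hpos h

theorem card_blocksThru_of_subset_block (hB : Cfsg.IsSteinerSystem t k B) {b s : Finset α}
    (hb : b ∈ B) (hsb : s ⊆ b) (hs : t ≤ s.card) : (blocksThru B s).card = 1 := by
  rw [card_eq_one]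
  refine ⟨b, eq_singleton_iff_unique_mem.mpr ⟨by simp [hb, hsb], fun c hc => ?_⟩⟩
  rw [mem_blocksThru] at hc
  obtain ⟨T, hTs, hT⟩ := exists_subset_card_eq hs
  exact (hB.2 T hT).unique ⟨hc.1, hTs.trans hc.2⟩ ⟨hb, hTs.trans hsb⟩

/-- The finite difference triangle of a sequence. -/
def triangle (lam : ℕ → ℤ) : ℕ → ℕ → ℤ
  | 0, i => lam i
  | d + 1, i => triangle lam d i - triangle lam d (i + 1)

/-- The intersection triangle: blocks meeting `U` exactly in `S`. -/
theorem card_inter_eq_triangle (lam : ℕ → ℤ) :
    ∀ (d : ℕ) (S U : Finset α), S ⊆ U → (U \ S).card = d →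
      (∀ T, S ⊆ T → T ⊆ U → ((blocksThru B T).card : ℤ) = lam T.card) →
      (((blocksOf B).filter (fun c => c ∩ U = S)).card : ℤ) = triangle lam d S.card := by
  intro d
  induction d with
  | zero =>
    intro S U hSU hd hlam
    have : U = S := subset_antisymm (sdiff_eq_empty_iff_subset.mp (card_eq_zero.mp hd)) hSU
    subst this
    rw [triangle, ← hlam U subset_rfl subset_rfl, blocksThru]
    congr 1
    refine congrArg Finset.card (filter_congr fun c _ => ?_)
    exact inter_eq_right
  | succ d ih =>
    intro S U hSU hd hlam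
    obtain ⟨x, hx⟩ : (U \ S).Nonempty := card_pos.mp (by omega)
    rw [mem_sdiff] at hx
    have hSU' : S ⊆ U.erase x := fun y hy => mem_erase.mpr ⟨fun e => hx.2 (e ▸ hy), hSU hy⟩
    have h1 : (U.erase x \ S).card = d := by
      rw [erase_sdiff_comm, card_erase_of_mem (mem_sdiff.mpr hx), hd]; rfl
    have h2 : (U \ insert x S).card = d := by
      rw [sdiff_insert, card_erase_of_mem (mem_sdiff.mpr hx), hd]; rfl
    have hT := ih (insert x S) U (insert_subset hx.1 hSU) h2
      (fun T hT hT' => hlam T ((subset_insert _ _).trans hT) hT')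
    have hF := ih S (U.erase x) hSU' h1 (fun T hT hT' => hlam T hT (hT'.trans (erase_subset _ _)))
    rw [card_insert_of_notMem hx.2] at hT
    rw [triangle, ← hT, ← hF, eq_sub_iff_add_eq, ← Nat.cast_add]
    norm_cast
    rw [← card_union_of_disjoint]
    · congr 1
      ext c
      simp only [mem_union, mem_filter]
      constructor
      · rintro (⟨hc, h⟩ | ⟨hc, h⟩) <;> refine ⟨hc, ?_⟩
        · rw [inter_erase, h, erase_eq_of_notMem hx.2]
        · rw [inter_erase, h, erase_insert hx.2]
      · rintro ⟨hc, h⟩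
        rw [inter_erase] at h
        by_cases hxc : x ∈ c ∩ U
        · exact Or.inr ⟨hc, by rw [← h, insert_erase hxc]⟩
        · exact Or.inl ⟨hc, by rw [← h, erase_eq_of_notMem hxc]⟩
    · rw [disjoint_left]
      intro c hc hc'
      rw [mem_filter] at hc hc'
      exact hx.2 (hc.2 ▸ hc'.2 ▸ mem_insert_self x S)

/-- Two blocks never meet in `i` points if the triangle entry vanishes. -/
theorem inter_card_ne (lam : ℕ → ℤ) {b c : Finset α} (hb : b ∈ B) (hc : c ∈ B)
    (hlam : ∀ T, T ⊆ b → ((blocksThru B T).card : ℤ) = lam T.card) (hk : b.card = k) {i : ℕ}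
    (h0 : triangle lam (k - i) i = 0) : (c ∩ b).card ≠ i := by
  intro hi
  have h := card_inter_eq_triangle (B := B) lam (k - i) (c ∩ b) b inter_subset_right
    (by rw [card_sdiff_of_subset inter_subset_right, hk, hi]) (fun T _ hT => hlam T hT)
  rw [hi, h0, Nat.cast_eq_zero, card_eq_zero, filter_eq_empty_iff] at h
  exact h (mem_blocksOf.mpr hc) rfl

/-- Double counting incidences with a set. -/
theorem sum_card_inter (F : Finset (Finset α)) (q : Finset α) :
    ∑ c ∈ F, (c ∩ q).card = ∑ x ∈ q, (F.filter (fun c => x ∈ c)).card := by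
  simp_rw [card_filter]
  rw [sum_comm]
  refine sum_congr rfl fun c _ => ?_
  rw [← card_filter, inter_comm, ← filter_mem_eq_inter]

/-- Double counting of contained subsets of a given size. -/
theorem sum_choose_inter (F : Finset (Finset α)) (q : Finset α) (j : ℕ) :
    ∑ c ∈ F, (c ∩ q).card.choose j
      = ∑ p ∈ q.powersetCard j, (F.filter (fun c => p ⊆ c)).card := by
  simp_rw [card_filter]
  rw [sum_comm]
  refine sum_congr rfl fun c _ => ?_
  rw [← card_filter, ← card_powersetCard]
  congr 1
  ext p
  simp only [mem_powersetCard, mem_filter, subset_inter_iff]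
  tauto

end Cfsg.Agent.Steiner
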