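import Mathlib
import Cfsg.Agent.Lib.Steiner.Basic

set_option autoImplicit false

/-! Counting in a Steiner system `S(3, 6, 22)` and the two graphs built from it. -/

namespace Cfsg.Agent.Steiner

open Finset

variable {α : Type*} [Fintype α] [DecidableEq α] {B : Set (Finset α)}

section S3622

variable (hα : Fintype.card α = 22) (hB : Cfsg.IsSteinerSystem 3 6 B)
include hα hB

theorem s22_lam1 (x : α) : (blocksThru B {x}).card = 21 :=
  card_blocksThru_eq hB (card_singleton x) hα 21 (by decide) (by decide) (by decide)

theorem s22_lam2 {p : Finset α} (hp : p.card = 2) : (blocksThru B p).card = 5 :=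
  card_blocksThru_eq hB hp hα 5 (by decide) (by decide) (by decide)

theorem s22_lam3 {p : Finset α} (hp : p.card = 3) : (blocksThru B p).card = 1 :=
  card_blocksThru_eq hB hp hα 1 (by decide) (by decide) (by decide)

theorem s22_card : (blocksOf B).card = 77 := by
  have : (blocksThru B ∅).card = 77 :=
    card_blocksThru_eq hB card_empty hα 77 (by decide) (by decide) (by decide)
  rwa [blocksThru, filter_true_of_mem (fun b _ => empty_subset b)] at this

theorem s22_lam {b T : Finset α} (hb : b ∈ B) (hT : T ⊆ b) :
    ((blocksThru B T).card : ℤ) = ([77, 21, 5].getD T.card 1 : ℕ) := by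
  obtain h0 | h1 | h2 | h3 : T.card = 0 ∨ T.card = 1 ∨ T.card = 2 ∨ 3 ≤ T.card := by omega
  · rw [h0]; rw [card_eq_zero] at h0; subst h0
    rw [blocksThru, filter_true_of_mem (fun b _ => empty_subset b), s22_card hα hB]; rfl
  · rw [h1]; rw [card_eq_one] at h1; obtain ⟨x, rfl⟩ := h1
    rw [s22_lam1 hα hB x]; rfl
  · rw [s22_lam2 hα hB h2, h2]; rfl
  · rw [card_blocksThru_of_subset_block hB hb hT h3, List.getD_eq_default _ _ (by simpa using h3)]

/-- Distinct blocks meet in 0 or 2 points. -/
theorem s22_inter {b c : Finset α} (hb : b ∈ B) (hc : c ∈ B) (hne : c ≠ b) :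
    (c ∩ b).card = 0 ∨ (c ∩ b).card = 2 := by
  have hle : (c ∩ b).card ≤ 6 := (card_le_card inter_subset_right).trans (hB.1 b hb).le
  have h6 : (c ∩ b).card ≠ 6 := fun h => hne <| by
    have h1 : c ∩ b = b := eq_of_subset_of_card_le inter_subset_right (by rw [h, hB.1 b hb])
    have h2 : c ∩ b = c := eq_of_subset_of_card_le inter_subset_left (by rw [h, hB.1 c hc])
    exact h2.symm.trans h1
  have h := fun i => inter_card_ne (B := B) (k := 6) (i := i)
    (fun n => (([77, 21, 5] : List ℕ).getD n 1 : ℕ)) hb hc (fun T hT => s22_lam hα hB hb hT)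
    (hB.1 b hb)
  have := h 1 (by decide)
  have := h 3 (by decide)
  have := h 4 (by decide)
  have := h 5 (by decide)
  omega

theorem s22_inter_le {b c : Finset α} (hb : b ∈ B) (hc : c ∈ B) (hne : c ≠ b) :
    (c ∩ b).card = 0 ↔ ¬ (c ∩ b).card = 2 := by
  rcases s22_inter hα hB hb hc hne with h | h <;> omega

/-- Blocks disjoint from `b`. -/
theorem s22_card_disjoint {b : Finset α} (hb : b ∈ B) :
    ((blocksOf B).filter (fun c => Disjoint c b)).card = 16 := by
  have h := card_inter_eq_triangle (B := B) (fun n => (([77, 21, 5] : List ℕ).getD n 1 : ℕ)) 6 ∅ b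
    (empty_subset b) (by rw [sdiff_empty, hB.1 b hb]) (fun T _ hT => s22_lam hα hB hb hT)
  simp only [← disjoint_iff_inter_eq_empty] at h
  rw [card_empty, show triangle (fun n => ((([77, 21, 5] : List ℕ).getD n 1 : ℕ) : ℤ)) 6 0 = 16 by decide] at h
  exact_mod_cast h

/-- Through two points off `b` exactly two blocks miss `b`. -/
theorem s22_pair_disjoint {b p : Finset α} (hb : b ∈ B) (hp : p.card = 2) (hpb : Disjoint p b) :
    ((blocksThru B p).filter (fun c => Disjoint c b)).card = 2 := by
  have hsum : ∑ c ∈ blocksThru B p, (c ∩ b).card = 6 := by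
    rw [sum_card_inter, sum_eq_card_nsmul (b := 1), hB.1 b hb, smul_eq_mul]
    intro x hx
    have hxp : x ∉ p := fun h => disjoint_left.mp hpb h hx
    rw [← s22_lam3 hα hB (p := insert x p) (by rw [card_insert_of_notMem hxp, hp])]
    congr 1
    ext c
    simp only [mem_filter, mem_blocksThru, insert_subset_iff]
    tauto
  have h02 : ∀ c ∈ blocksThru B p, (c ∩ b).card = 0 ∨ (c ∩ b).card = 2 := fun c hc => by
    rw [mem_blocksThru] at hc
    refine s22_inter hα hB hb hc.1 fun e => ?_
    obtain ⟨x, hx⟩ := card_pos.mp (show 0 < p.card by omega)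
    exact disjoint_left.mp hpb hx (e ▸ hc.2 hx)
  have hsplit := card_filter_add_card_filter_not (s := blocksThru B p) (fun c => Disjoint c b)
  rw [s22_lam2 hα hB hp] at hsplit
  have hs : ∑ c ∈ blocksThru B p, (c ∩ b).card
      = 2 * ((blocksThru B p).filter (fun c => ¬ Disjoint c b)).card := by
    rw [card_filter, mul_sum]
    refine sum_congr rfl fun c hc => ?_
    by_cases h : Disjoint c b
    · simp [h, disjoint_iff_inter_eq_empty.mp h]
    · rw [if_pos h]
      rcases h02 c hc with h' | h'
      · exact absurd (disjoint_iff_inter_eq_empty.mpr (card_eq_zero.mp h')) h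
      · omega
  omega

/-- Through a point off `b` exactly six blocks miss `b`. -/
theorem s22_point_disjoint {b : Finset α} (hb : b ∈ B) {x : α} (hx : x ∉ b) :
    ((blocksThru B {x}).filter (fun c => Disjoint c b)).card = 6 := by
  have hsum : ∑ c ∈ blocksThru B {x}, (c ∩ b).card = 30 := by
    rw [sum_card_inter, sum_eq_card_nsmul (b := 5), hB.1 b hb, smul_eq_mul]
    intro y hy
    have hne : x ≠ y := fun h => hx (h ▸ hy)
    rw [← s22_lam2 hα hB (p := {x, y}) (card_pair hne)]
    congr 1
    ext c
    simp [insert_subset_iff, and_assoc]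
  have hs : ∑ c ∈ blocksThru B {x}, (c ∩ b).card
      = 2 * ((blocksThru B {x}).filter (fun c => ¬ Disjoint c b)).card := by
    rw [card_filter, mul_sum]
    refine sum_congr rfl fun c hc => ?_
    rw [mem_blocksThru, singleton_subset_iff] at hc
    by_cases h : Disjoint c b
    · simp [h, disjoint_iff_inter_eq_empty.mp h]
    · rw [if_pos h]
      rcases s22_inter hα hB hb hc.1 (fun e => hx (e ▸ hc.2)) with h' | h'
      · exact absurd (disjoint_iff_inter_eq_empty.mpr (card_eq_zero.mp h')) h
      · omega
  have hsplit := card_filter_add_card_filter_not (s := blocksThru B {x}) (fun c => Disjoint c b)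
  rw [s22_lam1 hα hB x] at hsplit
  omega

/-- Blocks missing both `b` and `c`. -/
theorem s22_common_disjoint {b c : Finset α} (hb : b ∈ B) (hc : c ∈ B) (hne : c ≠ b) :
    ((blocksOf B).filter (fun d => Disjoint d b ∧ Disjoint d c)).card
      = if Disjoint c b then 0 else 4 := by
  set q := c \ b with hq
  set D := (blocksOf B).filter (fun d => Disjoint d b) with hD
  have hqd : Disjoint q b := disjoint_sdiff_self_left
  have hC : ∑ d ∈ D, (d ∩ q).card.choose 2 = q.card.choose 2 * 2 := by
    rw [sum_choose_inter, sum_eq_card_nsmul (b := 2), card_powersetCard, smul_eq_mul]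
    intro p hp
    rw [mem_powersetCard] at hp
    rw [← s22_pair_disjoint hα hB hb hp.2 (hqd.mono_left hp.1)]
    congr 1
    ext d
    simp only [hD, mem_filter, mem_blocksThru, mem_blocksOf]
    tauto
  have hqc : ∀ d ∈ D, d ∩ q = d ∩ c := by
    intro d hd
    rw [hD, mem_filter] at hd
    ext x
    simp only [hq, mem_inter, mem_sdiff]
    exact ⟨fun h => ⟨h.1, h.2.1⟩, fun h => ⟨h.1, h.2, disjoint_left.mp hd.2 h.1⟩⟩
  have hfil : (blocksOf B).filter (fun d => Disjoint d b ∧ Disjoint d c)
      = D.filter (fun d => Disjoint d c) := by rw [hD, filter_filter]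
  have hsplit := card_filter_add_card_filter_not (s := D) (fun d => Disjoint d c)
  have h16 : D.card = 16 := s22_card_disjoint hα hB hb
  have h02 : ∀ d ∈ D, d ≠ c → ¬ Disjoint d c → (d ∩ c).card = 2 := by
    intro d hd hdc h
    rw [hD, mem_filter, mem_blocksOf] at hd
    rcases s22_inter hα hB hc hd.1 hdc with h' | h'
    · exact absurd (disjoint_iff_inter_eq_empty.mpr (card_eq_zero.mp h')) h
    · exact h'
  rw [hfil]
  by_cases hcb : Disjoint c b
  · rw [if_pos hcb]
    have hq6 : q.card = 6 := by rw [hq, sdiff_eq_self_of_disjoint hcb, hB.1 c hc]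
    have hcD : c ∈ D := by rw [hD, mem_filter, mem_blocksOf]; exact ⟨hc, hcb⟩
    have hterm : ∑ d ∈ D.erase c, (d ∩ q).card.choose 2 ≤
        ((D.erase c).filter (fun d => ¬ Disjoint d c)).card := by
      rw [card_filter]
      refine sum_le_sum fun d hd => ?_
      rw [mem_erase] at hd
      rw [hqc d hd.2]
      by_cases h : Disjoint d c
      · simp [h, disjoint_iff_inter_eq_empty.mp h]
      · rw [if_pos h, h02 d hd.2 hd.1 h]; rfl
    rw [← add_sum_erase _ _ hcD, hqc c hcD, inter_self, hB.1 c hc, hq6] at hC
    have he : ((D.erase c).filter (fun d => ¬ Disjoint d c)).card + 1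
        = (D.filter (fun d => ¬ Disjoint d c)).card := by
      rw [filter_erase, card_erase_add_one]
      rw [mem_filter]
      refine ⟨hcD, fun h => ?_⟩
      rw [disjoint_self_iff_empty] at h
      simpa [h] using (hB.1 c hc)
    norm_num [Nat.choose] at hC
    omega
  · rw [if_neg hcb]
    have hq4 : q.card = 4 := by
      rcases s22_inter hα hB hb hc hne with h | h
      · exact absurd (disjoint_iff_inter_eq_empty.mpr (card_eq_zero.mp h)) hcb
      · have := card_sdiff_add_card_inter c b
        rw [hq]
        have := hB.1 c hc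
        omega
    have hterm : ∑ d ∈ D, (d ∩ q).card.choose 2 =
        (D.filter (fun d => ¬ Disjoint d c)).card := by
      rw [card_filter]
      refine sum_congr rfl fun d hd => ?_
      rw [hqc d hd]
      by_cases h : Disjoint d c
      · simp [h, disjoint_iff_inter_eq_empty.mp h]
      · rw [if_pos h, h02 d hd (fun e => hcb (e ▸ (mem_filter.mp hd).2)) h]; rfl
    rw [hq4] at hC
    norm_num [Nat.choose] at hC
    omega

theorem s22_blockGraph_srg [Fintype B] [DecidableRel (Cfsg.blockGraph B).Adj] :
    (Cfsg.blockGraph B).IsSRGWith 77 16 0 4 := by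
  have hne0 : ∀ b : B, ¬ Disjoint (b : Finset α) b := fun b h => by
    have := hB.1 b b.2
    rw [disjoint_self_iff_empty] at h
    simp [h] at this
  have hadj : ∀ b c : B, (Cfsg.blockGraph B).Adj b c ↔ Disjoint (c : Finset α) (b : Finset α) := by
    intro b c
    rw [Cfsg.blockGraph, SimpleGraph.fromRel_adj]
    constructor
    · rintro ⟨-, h | h⟩
      · exact h.symm
      · exact h
    · intro h
      exact ⟨fun e => hne0 b (by rw [← e] at h; exact h), Or.inr h⟩
  have hmap : ∀ (P : Finset α → Prop) [DecidablePred P],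
      Fintype.card {c : B // P c} = ((blocksOf B).filter P).card := by
    intro P _
    rw [Fintype.card_subtype, ← card_map (Function.Embedding.subtype _)]
    congr 1
    ext c
    simp [and_comm]
  refine ⟨?_, ?_, ?_, ?_⟩
  · rw [← card_blocksOf_eq, s22_card hα hB]
  · intro b
    rw [← SimpleGraph.card_neighborSet_eq_degree, ← s22_card_disjoint hα hB b.2, ← hmap]
    exact Fintype.card_congr (Equiv.subtypeEquivRight (fun c => hadj b c))
  · intro b c h
    have hd := (hadj b c).mp h
    have := s22_common_disjoint hα hB b.2 c.2 (fun e => hne0 b (e ▸ hd))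
    rw [if_pos hd] at this
    rw [← this, ← hmap]
    refine Fintype.card_congr (Equiv.subtypeEquivRight (fun d => ?_))
    simp [SimpleGraph.mem_commonNeighbors, hadj]
  · intro b c hbc h
    have hd : ¬ Disjoint (c : Finset α) b := fun h' => h ((hadj b c).mpr h')
    have := s22_common_disjoint hα hB b.2 c.2 (fun e => hbc (Subtype.ext e).symm)
    rw [if_neg hd] at this
    rw [← this, ← hmap]
    refine Fintype.card_congr (Equiv.subtypeEquivRight (fun d => ?_))
    simp [SimpleGraph.mem_commonNeighbors, hadj]

theorem s22_pointBlockGraph_srg [Fintype B] [DecidableRel (Cfsg.pointBlockGraph B).Adj] :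
    (Cfsg.pointBlockGraph B).IsSRGWith 100 22 0 6 := by
  classical
  have hne0 : ∀ b : B, ¬ Disjoint (b : Finset α) b := fun b h => by
    have := hB.1 b b.2
    rw [disjoint_self_iff_empty] at h
    simp [h] at this
  have e00 : ¬ (Cfsg.pointBlockGraph B).Adj none none := (Cfsg.pointBlockGraph B).irrefl
  have e0p : ∀ a, (Cfsg.pointBlockGraph B).Adj none (some (Sum.inl a)) := fun a => by
    simp [Cfsg.pointBlockGraph, SimpleGraph.fromRel_adj, Cfsg.pointBlockRel]
  have ep0 : ∀ a, (Cfsg.pointBlockGraph B).Adj (some (Sum.inl a)) none := fun a => (e0p a).symm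
  have e0b : ∀ b : B, ¬ (Cfsg.pointBlockGraph B).Adj none (some (Sum.inr b)) := fun b => by
    simp [Cfsg.pointBlockGraph, SimpleGraph.fromRel_adj, Cfsg.pointBlockRel]
  have eb0 : ∀ b : B, ¬ (Cfsg.pointBlockGraph B).Adj (some (Sum.inr b)) none := fun b h => e0b b h.symm
  have epp : ∀ a a', ¬ (Cfsg.pointBlockGraph B).Adj (some (Sum.inl a)) (some (Sum.inl a')) := fun a a' => by
    simp [Cfsg.pointBlockGraph, SimpleGraph.fromRel_adj, Cfsg.pointBlockRel]
  have epb : ∀ a (b : B), (Cfsg.pointBlockGraph B).Adj (some (Sum.inl a)) (some (Sum.inr b)) ↔ a ∈ (b : Finset α) :=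
    fun a b => by
    simp [Cfsg.pointBlockGraph, SimpleGraph.fromRel_adj, Cfsg.pointBlockRel]
  have ebp : ∀ a (b : B), (Cfsg.pointBlockGraph B).Adj (some (Sum.inr b)) (some (Sum.inl a)) ↔ a ∈ (b : Finset α) :=
    fun a b => by rw [(Cfsg.pointBlockGraph B).adj_comm, epb]
  have ebb : ∀ b c : B, (Cfsg.pointBlockGraph B).Adj (some (Sum.inr b)) (some (Sum.inr c)) ↔
      Disjoint (c : Finset α) (b : Finset α) := fun b c => by
    simp only [Cfsg.pointBlockGraph, SimpleGraph.fromRel_adj, Cfsg.pointBlockRel]
    constructor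
    · rintro ⟨-, h | h⟩
      · exact h.symm
      · exact h
    · intro h
      refine ⟨fun e => hne0 b ?_, Or.inr h⟩
      rw [Option.some.injEq, Sum.inr.injEq] at e
      rw [← e] at h; exact h
  have hsplit : ∀ (Q : Option (α ⊕ B) → Prop) [DecidablePred Q] (n₀ : ℕ) (P₁ : α → Prop)
      (P₂ : Finset α → Prop) [DecidablePred P₁] [DecidablePred P₂],
      (if Q none then 1 else 0) = n₀ → (∀ a, Q (some (Sum.inl a)) ↔ P₁ a) →
      (∀ b : B, Q (some (Sum.inr b)) ↔ P₂ b) →
      Fintype.card {v // Q v} = n₀ + (univ.filter P₁).card + ((blocksOf B).filter P₂).card := by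
    intro Q _ n₀ P₁ P₂ _ _ h0 h1 h2
    have e : ∑ c ∈ blocksOf B, (if P₂ c then 1 else 0) = ∑ c : B, if P₂ c then 1 else 0 :=
      @Finset.sum_subtype _ _ _ _ ‹Fintype B› (blocksOf B) (fun _ => mem_blocksOf)
        (fun b => if P₂ b then 1 else 0)
    rw [Fintype.card_subtype, card_filter, Fintype.sum_option, Fintype.sum_sum_type, h0,
      card_filter, card_filter, e]
    simp only [h1, h2, add_assoc]
  have hF : ((blocksOf B).filter (fun _ => False)).card = 0 := by simp
  have hP : ((univ : Finset α).filter (fun _ => False)).card = 0 := by simp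
  refine ⟨?_, ?_, ?_, ?_⟩
  · rw [Fintype.card_option, Fintype.card_sum, hα]
    rw [show Fintype.card B = 77 from (card_blocksOf_eq B).symm.trans (s22_card hα hB)]
  · intro v
    rw [← SimpleGraph.card_neighborSet_eq_degree]
    rcases v with _ | a | b
    · refine (hsplit (fun w => w ∈ (Cfsg.pointBlockGraph B).neighborSet none) 0 (fun _ => True) (fun _ => False)
        (by simp) (by simp [e0p]) (by simp [e0b])).trans ?_
      simp [hα]
    · refine (hsplit (fun w => w ∈ (Cfsg.pointBlockGraph B).neighborSet (some (Sum.inl a))) 1 (fun _ => False)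
        (fun c => ({a} : Finset α) ⊆ c) (by simp [ep0]) (by simp [epp]) (by simp [epb])).trans ?_
      have := s22_lam1 hα hB a
      rw [blocksThru] at this
      simp only [hP, this]
    · refine (hsplit (fun w => w ∈ (Cfsg.pointBlockGraph B).neighborSet (some (Sum.inr b))) 0 (fun x => x ∈ (b : Finset α))
        (fun c => Disjoint c (b : Finset α)) (by simp [eb0]) (by simp [ebp])
        (by simp [ebb])).trans ?_
      rw [s22_card_disjoint hα hB b.2, filter_mem_eq_inter, univ_inter, hB.1 b b.2]
  · intro v w h
    rcases v with _ | a | b <;> rcases w with _ | a' | c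
    · exact absurd h e00
    · refine (hsplit (fun u => u ∈ (Cfsg.pointBlockGraph B).commonNeighbors _ _) 0 (fun _ => False) (fun _ => False)
        (by simp [SimpleGraph.mem_commonNeighbors]) (by simp [SimpleGraph.mem_commonNeighbors, epp])
        (by simp [SimpleGraph.mem_commonNeighbors, e0b])).trans ?_
      simp
    · exact absurd h (e0b c)
    · refine (hsplit (fun u => u ∈ (Cfsg.pointBlockGraph B).commonNeighbors _ _) 0 (fun _ => False) (fun _ => False)
        (by simp [SimpleGraph.mem_commonNeighbors]) (by simp [SimpleGraph.mem_commonNeighbors, epp])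
        (by simp [SimpleGraph.mem_commonNeighbors, e0b])).trans ?_
      simp
    · exact absurd h (epp a a')
    · rw [epb] at h
      refine (hsplit (fun u => u ∈ (Cfsg.pointBlockGraph B).commonNeighbors _ _) 0 (fun _ => False) (fun _ => False)
        (by simp [SimpleGraph.mem_commonNeighbors, eb0])
        (by simp [SimpleGraph.mem_commonNeighbors, epp])
        (fun d => ?_)).trans (by simp)
      simp only [SimpleGraph.mem_commonNeighbors, epb, ebb, iff_false, not_and]
      exact fun h1 h2 => disjoint_left.mp h2 h1 h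
    · exact absurd h (eb0 b)
    · rw [ebp] at h
      refine (hsplit (fun u => u ∈ (Cfsg.pointBlockGraph B).commonNeighbors _ _) 0 (fun _ => False) (fun _ => False)
        (by simp [SimpleGraph.mem_commonNeighbors, eb0])
        (by simp [SimpleGraph.mem_commonNeighbors, epp])
        (fun d => ?_)).trans (by simp)
      simp only [SimpleGraph.mem_commonNeighbors, epb, ebb, iff_false, not_and]
      exact fun h1 h2 => disjoint_left.mp h1 h2 h
    · rw [ebb] at h
      refine (hsplit (fun u => u ∈ (Cfsg.pointBlockGraph B).commonNeighbors _ _) 0 (fun _ => False)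
        (fun d => Disjoint d (b : Finset α) ∧ Disjoint d (c : Finset α))
        (by simp [SimpleGraph.mem_commonNeighbors, eb0])
        (fun x => ?_)
        (by simp [SimpleGraph.mem_commonNeighbors, ebb])).trans ?_
      · simp only [SimpleGraph.mem_commonNeighbors, ebp, iff_false, not_and]
        exact fun h1 h2 => disjoint_left.mp h h2 h1
      · rw [s22_common_disjoint hα hB b.2 c.2 (fun e => hne0 b (e ▸ h)), if_pos h]
        simp
  · intro v w hne h
    rcases v with _ | a | b <;> rcases w with _ | a' | c
    · exact absurd rfl hne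
    · exact absurd (e0p a') h
    · refine (hsplit (fun u => u ∈ (Cfsg.pointBlockGraph B).commonNeighbors _ _) 0 (fun x => x ∈ (c : Finset α))
        (fun _ => False) (by simp [SimpleGraph.mem_commonNeighbors])
        (by simp [SimpleGraph.mem_commonNeighbors, e0p, ebp])
        (by simp [SimpleGraph.mem_commonNeighbors, e0b])).trans ?_
      simp [filter_mem_eq_inter, hB.1 c c.2]
    · exact absurd (ep0 a) h
    · have hp : ({a, a'} : Finset α).card = 2 := card_pair (fun e => hne (by rw [e]))
      refine (hsplit (fun u => u ∈ (Cfsg.pointBlockGraph B).commonNeighbors _ _) 1 (fun _ => False)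
        (fun d => ({a, a'} : Finset α) ⊆ d) (by simp [SimpleGraph.mem_commonNeighbors, ep0])
        (by simp [SimpleGraph.mem_commonNeighbors, epp])
        (by simp [SimpleGraph.mem_commonNeighbors, epb, insert_subset_iff])).trans ?_
      have := s22_lam2 hα hB hp
      rw [blocksThru] at this
      simp [this]
    · have ha : a ∉ (c : Finset α) := fun h' => h ((epb a c).mpr h')
      refine (hsplit (fun u => u ∈ (Cfsg.pointBlockGraph B).commonNeighbors _ _) 0 (fun _ => False)
        (fun d => ({a} : Finset α) ⊆ d ∧ Disjoint d (c : Finset α))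
        (by simp [SimpleGraph.mem_commonNeighbors, eb0])
        (by simp [SimpleGraph.mem_commonNeighbors, epp])
        (by simp [SimpleGraph.mem_commonNeighbors, epb, ebb])).trans ?_
      have := s22_point_disjoint hα hB c.2 ha
      rw [blocksThru, filter_filter] at this
      simp only [hP, this]
    · refine (hsplit (fun u => u ∈ (Cfsg.pointBlockGraph B).commonNeighbors _ _) 0 (fun x => x ∈ (b : Finset α))
        (fun _ => False) (by simp [SimpleGraph.mem_commonNeighbors])
        (by simp [SimpleGraph.mem_commonNeighbors, e0p, ebp])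
        (by simp [SimpleGraph.mem_commonNeighbors, e0b])).trans ?_
      simp [filter_mem_eq_inter, hB.1 b b.2]
    · have ha : a' ∉ (b : Finset α) := fun h' => h ((ebp a' b).mpr h')
      refine (hsplit (fun u => u ∈ (Cfsg.pointBlockGraph B).commonNeighbors _ _) 0 (fun _ => False)
        (fun d => ({a'} : Finset α) ⊆ d ∧ Disjoint d (b : Finset α))
        (by simp [SimpleGraph.mem_commonNeighbors, eb0])
        (by simp [SimpleGraph.mem_commonNeighbors, epp])
        (by simp [SimpleGraph.mem_commonNeighbors, epb, ebb, and_comm])).trans ?_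
      have := s22_point_disjoint hα hB b.2 ha
      rw [blocksThru, filter_filter] at this
      simp only [hP, this]
    · have hbc : (c : Finset α) ≠ b := fun e => hne (by rw [Subtype.ext e])
      have hd : ¬ Disjoint (c : Finset α) b := fun h' => h ((ebb b c).mpr h')
      refine (hsplit (fun u => u ∈ (Cfsg.pointBlockGraph B).commonNeighbors _ _) 0
        (fun x => x ∈ (c : Finset α) ∩ (b : Finset α))
        (fun d => Disjoint d (b : Finset α) ∧ Disjoint d (c : Finset α))
        (by simp [SimpleGraph.mem_commonNeighbors, eb0])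
        (by simp [SimpleGraph.mem_commonNeighbors, ebp, and_comm])
        (by simp [SimpleGraph.mem_commonNeighbors, ebb])).trans ?_
      rw [s22_common_disjoint hα hB b.2 c.2 hbc, if_neg hd, filter_mem_eq_inter, univ_inter]
      rcases s22_inter hα hB b.2 c.2 hbc with h2 | h2
      · exact absurd (disjoint_iff_inter_eq_empty.mpr (card_eq_zero.mp h2)) hd
      · omega

end S3622

end Cfsg.Agent.Steiner
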