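import Mathlib
import Cfsg.Agent.Lib.Steiner.S3622

set_option autoImplicit false

/-! Parities of block intersections. -/

namespace Cfsg.Agent.Steiner

open Finset

variable {α : Type*} [Fintype α] [DecidableEq α] {B : Set (Finset α)}

theorem s23_lam {b T : Finset α} (hα : Fintype.card α = 23) (hB : Cfsg.IsSteinerSystem 4 7 B)
    (hb : b ∈ B) (hT : T ⊆ b) :
    ((blocksThru B T).card : ℤ) = ([253, 77, 21, 5].getD T.card 1 : ℕ) := by
  obtain h0 | h0 | h0 | h0 | h0 : T.card = 0 ∨ T.card = 1 ∨ T.card = 2 ∨ T.card = 3 ∨ 4 ≤ T.card := by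
    omega
  · rw [card_blocksThru_eq hB h0 hα 253 (by decide) (by decide) (by decide), h0]; rfl
  · rw [card_blocksThru_eq hB h0 hα 77 (by decide) (by decide) (by decide), h0]; rfl
  · rw [card_blocksThru_eq hB h0 hα 21 (by decide) (by decide) (by decide), h0]; rfl
  · rw [card_blocksThru_eq hB h0 hα 5 (by decide) (by decide) (by decide), h0]; rfl
  · rw [card_blocksThru_of_subset_block hB hb hT h0, List.getD_eq_default _ _ (by simpa using h0)]

theorem card_inter_lt_card {t k : ℕ} (hB : Cfsg.IsSteinerSystem t k B) {b c : Finset α}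
    (hb : b ∈ B) (hc : c ∈ B) (hne : c ≠ b) : (c ∩ b).card < k := by
  refine lt_of_le_of_ne ((card_le_card inter_subset_right).trans (hB.1 b hb).le) fun h => hne ?_
  have h1 : c ∩ b = b := eq_of_subset_of_card_le inter_subset_right (by rw [h, hB.1 b hb])
  have h2 : c ∩ b = c := eq_of_subset_of_card_le inter_subset_left (by rw [h, hB.1 c hc])
  exact h2.symm.trans h1

/-- Distinct blocks of an `S(4, 7, 23)` meet in 1 or 3 points. -/
theorem s23_inter (hα : Fintype.card α = 23) (hB : Cfsg.IsSteinerSystem 4 7 B) {b c : Finset α}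
    (hb : b ∈ B) (hc : c ∈ B) (hne : c ≠ b) : (c ∩ b).card = 1 ∨ (c ∩ b).card = 3 := by
  have hlt := card_inter_lt_card hB hb hc hne
  have h := fun i => inter_card_ne (B := B) (k := 7) (i := i)
    (fun n => (([253, 77, 21, 5] : List ℕ).getD n 1 : ℕ)) hb hc (fun T hT => s23_lam hα hB hb hT)
    (hB.1 b hb)
  have := h 0 (by decide)
  have := h 2 (by decide)
  have := h 4 (by decide)
  have := h 5 (by decide)
  have := h 6 (by decide)
  omega

theorem s22_parity (B : Set (Finset (Fin 22))) (hB : Cfsg.IsSteinerSystem 3 6 B) :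
    ∀ s ∈ B, ∀ c ∈ B, s ≠ c → decide (Odd (s ∩ c).card) = false := by
  intro s hs c hc hne
  rcases s22_inter (Fintype.card_fin 22) hB hc hs hne with h | h <;> rw [h] <;> decide

theorem s23_parity (B : Set (Finset (Fin 23))) (hB : Cfsg.IsSteinerSystem 4 7 B) :
    ∀ s ∈ B, ∀ c ∈ B, s ≠ c → decide (Odd (s ∩ c).card) = true := by
  intro s hs c hc hne
  rcases s23_inter (Fintype.card_fin 23) hB hc hs hne with h | h <;> rw [h] <;> decide

end Cfsg.Agent.Steiner
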