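import Mathlib
import Cfsg.Agent.Lib.Steiner.Basic

set_option autoImplicit false

/-! A verified exhaustive search for Steiner systems on `Fin v`, with points coded as bits. -/

namespace Cfsg.Agent.Steiner

open Finset

/-- The set of points coded by a mask. -/
def dec (v m : ℕ) : Finset (Fin v) := univ.filter fun i => m.testBit i

@[simp] theorem mem_dec {v m : ℕ} {i : Fin v} : i ∈ dec v m ↔ m.testBit i = true := by simp [dec]

theorem dec_and (v a b : ℕ) : dec v (a &&& b) = dec v a ∩ dec v b := by ext i; simp

theorem exists_mask {v : ℕ} (s : Finset (Fin v)) : ∃ x, x < 2 ^ v ∧ dec v x = s := by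
  refine ⟨Nat.ofBits (fun i => decide (i ∈ s)), Nat.ofBits_lt_two_pow _, ?_⟩
  ext i
  simp

theorem bit_ext {v a b : ℕ} (ha : a < 2 ^ v) (hb : b < 2 ^ v)
    (h : ∀ i < v, a.testBit i = b.testBit i) : a = b := by
  refine Nat.eq_of_testBit_eq fun i => ?_
  rcases lt_or_ge i v with hi | hi
  · exact h i hi
  · rw [Nat.testBit_lt_two_pow (ha.trans_le (Nat.pow_le_pow_right two_pos hi)),
      Nat.testBit_lt_two_pow (hb.trans_le (Nat.pow_le_pow_right two_pos hi))]

theorem dec_injOn {v a b : ℕ} (ha : a < 2 ^ v) (hb : b < 2 ^ v) (h : dec v a = dec v b) : a = b :=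
  bit_ext ha hb fun i hi => by
    have := Finset.ext_iff.mp h ⟨i, hi⟩
    simp only [mem_dec] at this
    exact Bool.eq_iff_iff.mpr this

/-- Fewer than `t` one bits. -/
def wlt : ℕ → ℕ → Bool :=
  fun t => Nat.rec (fun _ => false)
    (fun _ r x => cond (Nat.beq x 0) true (r (Nat.land x (Nat.sub x 1)))) t

theorem wlt_zero (x : ℕ) : wlt 0 x = false := rfl

theorem wlt_succ (t x : ℕ) : wlt (t + 1) x = (x == 0 || wlt t (x &&& (x - 1))) := by
  cases x <;> rfl

/-- Parity of the number of one bits, with fuel. -/
def oddW : ℕ → ℕ → Bool :=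
  fun n => Nat.rec (fun _ => false)
    (fun _ r x => cond (Nat.beq x 0) false (not (r (Nat.land x (Nat.sub x 1))))) n

theorem oddW_succ (n x : ℕ) :
    oddW (n + 1) x = if x = 0 then false else !oddW n (x &&& (x - 1)) := by
  cases x <;> rfl

/-- `List.all`, evaluated through the recursor. -/
def allB {β : Type} (f : β → Bool) : List β → Bool :=
  fun l => List.rec true (fun b _ r => cond (f b) r false) l

theorem allB_eq {β : Type} (f : β → Bool) (l : List β) : allB f l = l.all f := by
  induction l with
  | nil => rfl
  | cons a l ih =>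
    rw [List.all_cons, ← ih]
    show cond (f a) (allB f l) false = _
    cases f a <;> rfl

/-- Append, evaluated through the recursor. -/
def appB (a b : List ℕ) : List ℕ := List.rec b (fun x _ r => x :: r) a

theorem appB_eq (a b : List ℕ) : appB a b = a ++ b := by
  induction a with
  | nil => rfl
  | cons x a ih => rw [List.cons_append, ← ih]; rfl

theorem length_bitIndices_clear : ∀ x : ℕ, x ≠ 0 →
    (x &&& (x - 1)).bitIndices.length + 1 = x.bitIndices.length := by
  intro x
  induction x using Nat.strong_induction_on with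
  | _ x ih =>
    intro hx
    rcases Nat.even_or_odd' x with ⟨y, rfl | rfl⟩
    · have hy : y ≠ 0 := by omega
      have h : (2 * y) &&& (2 * y - 1) = 2 * (y &&& (y - 1)) := by
        refine Nat.eq_of_testBit_eq fun i => ?_
        cases i with
        | zero => simp [Nat.testBit_zero]
        | succ i =>
          have h1 : (2 * y - 1) / 2 = y - 1 := by omega
          simp [Nat.testBit_succ, Nat.and_div_two, h1]
      rw [h, Nat.bitIndices_two_mul, Nat.bitIndices_two_mul, List.length_map, List.length_map]
      exact ih y (by omega) hy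
    · have h : (2 * y + 1) &&& (2 * y + 1 - 1) = 2 * y := by
        refine Nat.eq_of_testBit_eq fun i => ?_
        cases i with
        | zero => simp [Nat.testBit_zero]
        | succ i =>
          have h1 : (2 * y + 1) / 2 = y := by omega
          simp [Nat.testBit_succ, Nat.and_div_two, h1]
      rw [h, Nat.bitIndices_two_mul, Nat.bitIndices_two_mul_add_one, List.length_cons]

theorem wlt_iff : ∀ t x : ℕ, wlt t x = true ↔ x.bitIndices.length < t := by
  intro t
  induction t with
  | zero => simp [wlt_zero]
  | succ t ih =>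
    intro x
    rcases eq_or_ne x 0 with rfl | hx
    · simp [wlt_succ]
    · simp only [wlt_succ, Bool.or_eq_true, beq_iff_eq, hx, false_or, ih]
      have := length_bitIndices_clear x hx
      omega

theorem card_dec {v x : ℕ} (hx : x < 2 ^ v) : (dec v x).card = x.bitIndices.length := by
  rw [← List.toFinset_card_of_nodup (Nat.bitIndices_nodup (n := x)),
    ← card_map Fin.valEmbedding]
  congr 1
  ext i
  simp only [mem_map, mem_dec, Fin.valEmbedding_apply, List.mem_toFinset]
  constructor
  · rintro ⟨j, hj, rfl⟩
    exact Nat.mem_bitIndices.mpr hj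
  · intro hi
    have hb := Nat.mem_bitIndices.mp hi
    refine ⟨⟨i, ?_⟩, hb, rfl⟩
    by_contra hiv
    rw [Nat.testBit_lt_two_pow (hx.trans_le (Nat.pow_le_pow_right two_pos (by omega)))] at hb
    simp at hb

theorem wlt_and_of_card_lt {v t x b : ℕ} (hx : x < 2 ^ v) (h : (dec v x ∩ dec v b).card < t) :
    wlt t (x &&& b) = true := by
  rw [wlt_iff, ← card_dec (v := v) (Nat.and_le_left.trans_lt hx), dec_and]
  exact h

/-- All masks below `2 ^ i` with `j` bits, extending `m`, all of whose prefixes pass `ok`. -/
def gen (ok : ℕ → Bool) : ℕ → ℕ → ℕ → List ℕ :=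
  fun i => Nat.rec (fun j m => cond (Nat.beq j 0) [m] [])
    (fun i r j m => cond (Nat.beq j 0) [m]
      (appB (r j m) (cond (ok (Nat.lor m (Nat.pow 2 i))) (r (Nat.sub j 1) (Nat.lor m (Nat.pow 2 i))) [])))
    i

theorem gen_zero (ok : ℕ → Bool) (j m : ℕ) : gen ok 0 j m = if j = 0 then [m] else [] := by
  cases j <;> rfl

theorem gen_succ (ok : ℕ → Bool) (i j m : ℕ) :
    gen ok (i + 1) j m = if j = 0 then [m]
      else gen ok i j m ++ if ok (m ||| 2 ^ i) then gen ok i (j - 1) (m ||| 2 ^ i) else [] := by
  cases j with
  | zero => rfl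
  | succ j =>
    show appB (gen ok i (j + 1) m) (cond (ok (m ||| 2 ^ i)) (gen ok i j (m ||| 2 ^ i)) []) = _
    rw [appB_eq]
    cases ok (m ||| 2 ^ i) <;> rfl

theorem mem_gen (ok : ℕ → Bool) (x : ℕ)
    (hok : ∀ y, (∀ p, y.testBit p = true → x.testBit p = true) → ok y = true) :
    ∀ i j m, (∀ p, m.testBit p = (decide (i ≤ p) && x.testBit p)) →
      ((range i).filter fun p => x.testBit p).card = j → x ∈ gen ok i j m := by
  intro i
  induction i with
  | zero =>
    intro j m hm hj
    have : x = m := Nat.eq_of_testBit_eq fun p => by simp [hm p]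
    subst this
    simp at hj
    simp [gen_zero, ← hj]
  | succ i ih =>
    intro j m hm hj
    rcases eq_or_ne j 0 with rfl | hj0
    · have : x = m := Nat.eq_of_testBit_eq fun p => by
        rw [hm p]
        by_cases hp : i + 1 ≤ p
        · simp [hp]
        · rw [card_eq_zero, filter_eq_empty_iff] at hj
          have := hj (mem_range.mpr (by omega : p < i + 1))
          simp [this]
      subst this
      simp [gen_succ]
    · rw [gen_succ, if_neg hj0, List.mem_append]
      rw [range_add_one, filter_insert] at hj
      by_cases hxi : x.testBit i = true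
      · right
        rw [if_pos hxi, card_insert_of_notMem (by simp)] at hj
        have hm' : ∀ p, (m ||| 2 ^ i).testBit p = (decide (i ≤ p) && x.testBit p) := by
          intro p
          rw [Nat.testBit_or, hm, Nat.testBit_two_pow]
          by_cases hp : i = p
          · subst hp; simp [hxi]
          · have : decide (i + 1 ≤ p) = decide (i ≤ p) := by
              simp only [decide_eq_decide]; omega
            rw [this]; simp [hp]
        rw [if_pos (hok _ fun p hp => by rw [hm'] at hp; simp at hp; exact hp.2)]
        exact ih (j - 1) _ hm' (by omega)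
      · left
        rw [if_neg hxi] at hj
        refine ih j m (fun p => ?_) hj
        rw [hm p]
        by_cases hp : i = p
        · subst hp; simp [hxi]
        · have : decide (i + 1 ≤ p) = decide (i ≤ p) := by
            simp only [decide_eq_decide]; omega
          rw [this]

/-- Compatibility of a partial block with the chosen blocks. -/
def compat (t : ℕ) (init : List ℕ) (y : ℕ) : Bool := allB (fun b => wlt t (Nat.land y b)) init

/-- The candidate blocks. -/
def cands0 (v k t : ℕ) (init : List ℕ) : List ℕ := gen (compat t init) v k 0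

/-- All masks below `2 ^ i` with `j` bits, extending `m`, passing the test of each level. -/
def genLv (ok : ℕ → ℕ → Bool) : ℕ → ℕ → ℕ → List ℕ :=
  fun i => Nat.rec (fun j m => cond (Nat.beq j 0) [m] [])
    (fun i r j m => cond (Nat.beq j 0) [m]
      (appB (cond (ok i m) (r j m) [])
        (cond (ok i (Nat.lor m (Nat.pow 2 i))) (r (Nat.sub j 1) (Nat.lor m (Nat.pow 2 i))) [])))
    i

theorem genLv_zero (ok : ℕ → ℕ → Bool) (j m : ℕ) :
    genLv ok 0 j m = if j = 0 then [m] else [] := by
  cases j <;> rfl

theorem genLv_succ (ok : ℕ → ℕ → Bool) (i j m : ℕ) :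
    genLv ok (i + 1) j m = if j = 0 then [m]
      else (if ok i m then genLv ok i j m else []) ++
        if ok i (m ||| 2 ^ i) then genLv ok i (j - 1) (m ||| 2 ^ i) else [] := by
  cases j with
  | zero => rfl
  | succ j =>
    show appB (cond (ok i m) (genLv ok i (j + 1) m) [])
      (cond (ok i (m ||| 2 ^ i)) (genLv ok i j (m ||| 2 ^ i)) []) = _
    rw [appB_eq]
    cases ok i m <;> cases ok i (m ||| 2 ^ i) <;> rfl

/-- The test of a parity equation list at level `i`: equations with lowest bit `i`. -/
def eqOk (v : ℕ) (eqs : List (ℕ × Bool)) (i y : ℕ) : Bool :=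
  allB (fun e => cond (Nat.beq (Nat.xor e.1 (Nat.land e.1 (Nat.sub e.1 1))) (Nat.pow 2 i))
    (oddW v (Nat.land y e.1) == e.2) true) eqs

/-- A parity equation implied by the blocks `sel`, if every further block meets them all in a
number of points of parity `q`. -/
def eqOfSel (q : Bool) : List ℕ → ℕ × Bool
  | [] => (0, false)
  | b :: bs => (b ^^^ (eqOfSel q bs).1, Bool.xor q (eqOfSel q bs).2)

/-- Candidates cut out by parity equations. -/
def candsLin (v k t : ℕ) (q : Bool) (init : List ℕ) (sels : List (List ℕ)) : List ℕ :=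
  (genLv (eqOk v (sels.map (eqOfSel q))) v k 0).filter (compat t init)

/-- Lowest `t` one bits of `x`. -/
def lowBits : ℕ → ℕ → ℕ
  | 0, _ => 0
  | t + 1, x => (x - (x &&& (x - 1))) ||| lowBits t (x &&& (x - 1))

/-- The least value of `lowBits t` on a list, with the accumulator evaluated at each step. -/
def minLow (t : ℕ) : List ℕ → ℕ → ℕ :=
  fun l => List.rec (fun m => m)
    (fun x _ r m => Nat.rec (r 0)
      (fun m' _ => r (cond (Nat.ble (lowBits t x) (m' + 1)) (lowBits t x) (m' + 1))) m) l

/-- Two points not separated by any mask of a list. -/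
def sameSig (ms : List ℕ) (i j : ℕ) : Bool := ms.all fun b => b.testBit i == b.testBit j

/-- Consecutive interchangeable pairs of points. -/
def symPairs (v : ℕ) (ms : List ℕ) : List (ℕ × ℕ) :=
  (List.range v).filterMap fun j =>
    ((List.range j).reverse.find? fun i => sameSig ms i j).map fun i => (i, j)

/-- Minimality of a candidate under the given transpositions. -/
def canon (pairs : List (ℕ × ℕ)) (x : ℕ) : Bool :=
  pairs.all fun p => !x.testBit p.2 || x.testBit p.1

/-- The exhaustive search. -/
def search (v t : ℕ) (sym : Bool) (ok : List ℕ → Bool) : ℕ → List ℕ → List ℕ → Bool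
  | 0, _, _ => false
  | n + 1, cands, acc =>
    match cands with
    | [] => ok acc
    | h :: tl =>
      let T := minLow t tl (lowBits t h)
      let pairs := if sym then symPairs v (T :: acc) else []
      decide (T < 2 ^ v) && wlt (t + 1) T && !wlt t T && acc.all (fun b => T &&& b != T) &&
        pairs.all (fun p => decide (p.1 < p.2) && decide (p.2 < v) && sameSig (T :: acc) p.1 p.2) &&
        ((h :: tl).filter fun x => x &&& T == T).all fun x =>
          !canon pairs x || search v t sym ok n (cands.filter fun c => wlt t (c &&& x)) (x :: acc)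

/-- Image of a mask under a list of point images. -/
def mapMask (v : ℕ) (π : List ℕ) (x : ℕ) : ℕ :=
  (List.range v).foldl (fun r i => if x.testBit i then r ||| 2 ^ π.getD i 0 else r) 0

theorem testBit_foldl_or (f : ℕ → ℕ) (c : ℕ → Bool) : ∀ (l : List ℕ) (r p : ℕ),
    (l.foldl (fun r i => if c i then r ||| 2 ^ f i else r) r).testBit p
      = (r.testBit p || l.any fun i => c i && (f i == p)) := by
  intro l
  induction l with
  | nil => simp
  | cons a l ih =>
    intro r p
    rw [List.foldl_cons, ih, List.any_cons]
    cases hc : c a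
    · simp
    · simp [Nat.testBit_or, Nat.testBit_two_pow, Bool.or_assoc]
      rfl

theorem testBit_mapMask (v : ℕ) (π : List ℕ) (x p : ℕ) :
    (mapMask v π x).testBit p = (List.range v).any fun i => x.testBit i && (π.getD i 0 == p) := by
  rw [mapMask, testBit_foldl_or (fun i => π.getD i 0) (fun i => x.testBit i)]
  simp

/-- A list of point images is a permutation. -/
def isPerm (v : ℕ) (π : List ℕ) : Bool :=
  (List.range v).all (fun i => decide (π.getD i 0 < v)) && mapMask v π (2 ^ v - 1) == 2 ^ v - 1

theorem exists_perm_of_isPerm {v : ℕ} {π : List ℕ} (h : isPerm v π = true) :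
    ∃ e : Equiv.Perm (Fin v), (∀ i : Fin v, (e i : ℕ) = π.getD i 0) ∧
      ∀ x, dec v (mapMask v π x) = (dec v x).image e := by
  simp only [isPerm, Bool.and_eq_true, List.all_eq_true, List.mem_range, decide_eq_true_eq,
    beq_iff_eq] at h
  obtain ⟨hlt, hmap⟩ := h
  let f : Fin v → Fin v := fun i => ⟨π.getD i 0, hlt i i.2⟩
  have hf : Function.Surjective f := by
    intro p
    have h1 : (mapMask v π (2 ^ v - 1)).testBit p = true := by
      rw [hmap, Nat.testBit_two_pow_sub_one]; simp [p.2]
    rw [testBit_mapMask, List.any_eq_true] at h1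
    obtain ⟨i, hi, hp⟩ := h1
    simp only [Bool.and_eq_true, beq_iff_eq] at hp
    exact ⟨⟨i, List.mem_range.mp hi⟩, Fin.ext hp.2⟩
  refine ⟨Equiv.ofBijective f (Finite.surjective_iff_bijective.mp hf), fun i => rfl, fun x => ?_⟩
  ext p
  simp only [mem_dec, testBit_mapMask, List.any_eq_true, List.mem_range, Bool.and_eq_true,
    beq_iff_eq, mem_image, Equiv.ofBijective_apply]
  constructor
  · rintro ⟨i, hi, hx, hp⟩
    exact ⟨⟨i, hi⟩, hx, Fin.ext hp⟩
  · rintro ⟨i, hx, rfl⟩
    exact ⟨i, i.2, hx, rfl⟩

/-- The leaf test: there are too few blocks, or some listed permutation carries all blocks into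
the model. -/
def leafOk (v : ℕ) (perms : List (List ℕ)) (model : List ℕ) (acc : List ℕ) : Bool :=
  decide (acc.length < model.length) ||
    perms.any fun π => acc.all fun b => model.contains (mapMask v π b)

/-- The whole certificate, for a given list of candidates. -/
def checkUnique (v t : ℕ) (sym : Bool) (init cands : List ℕ) (perms : List (List ℕ))
    (model : List ℕ) (fuel : ℕ) : Bool :=
  perms.all (isPerm v) && search v t sym (leafOk v perms model) fuel cands init

variable {v k t : ℕ}

/-- The blocks coded by a list of masks. -/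
def decSet (v : ℕ) (M : List ℕ) : Set (Finset (Fin v)) := {s | ∃ m ∈ M, dec v m = s}

theorem low_bit_spec : ∀ e i : ℕ, e ^^^ (e &&& (e - 1)) = 2 ^ i →
    ∀ p < i, e.testBit p = false := by
  intro e
  induction e using Nat.strong_induction_on with
  | _ e ih =>
    intro i h p hp
    rcases Nat.even_or_odd' e with ⟨y, rfl | rfl⟩
    · rcases eq_or_ne y 0 with rfl | hy
      · simp
      cases p with
      | zero => simp [Nat.testBit_zero]
      | succ p =>
        obtain ⟨i, rfl⟩ := Nat.exists_eq_succ_of_ne_zero (show i ≠ 0 by omega)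
        have h1 : (2 * y - 1) / 2 = y - 1 := by omega
        have h' := congrArg (· / 2) h
        simp only [Nat.xor_div_two, Nat.and_div_two, h1, pow_succ] at h'
        have := ih y (by omega) i (by simpa using h') p (by omega)
        simpa [Nat.testBit_succ] using this
    · exfalso
      have h0 := congrArg (fun z => Nat.testBit z 0) h
      rw [show 2 * y + 1 - 1 = 2 * y by omega] at h0
      have b1 : (2 * y + 1).testBit 0 = true := Nat.testBit_zero _ |>.trans (by simp)
      have b2 : (2 * y).testBit 0 = false := Nat.testBit_zero _ |>.trans (by simp)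
      have b3 : (2 ^ i).testBit 0 = false := by rw [Nat.testBit_two_pow]; simp; omega
      rw [Nat.testBit_xor, Nat.testBit_and, b1, b2, b3] at h0
      simp at h0

/-- Every further block of a system through `acc` is among the candidates. -/
def Complete (v k t : ℕ) (acc cands : List ℕ) : Prop :=
  ∀ B : Set (Finset (Fin v)), Cfsg.IsSteinerSystem t k B → (∀ b ∈ acc, dec v b ∈ B) →
    ∀ s ∈ B, (∀ b ∈ acc, s ≠ dec v b) → ∃ x ∈ cands, x < 2 ^ v ∧ dec v x = s

theorem card_inter_lt_of_ne {α : Type*} [DecidableEq α] {B : Set (Finset α)}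
    (hB : Cfsg.IsSteinerSystem t k B) {s c : Finset α} (hs : s ∈ B) (hc : c ∈ B) (hne : s ≠ c) :
    (s ∩ c).card < t := by
  by_contra hlt
  obtain ⟨R, hR, hRt⟩ := exists_subset_card_eq (not_lt.mp hlt)
  exact hne ((hB.2 R hRt).unique ⟨hs, hR.trans inter_subset_left⟩
    ⟨hc, hR.trans inter_subset_right⟩)

theorem card_filter_range_testBit (v x : ℕ) :
    ((range v).filter fun p => x.testBit p).card = (dec v x).card := by
  rw [← card_map Fin.valEmbedding (s := dec v x)]
  congr 1
  ext p
  simp only [mem_map, mem_dec, Fin.valEmbedding_apply, mem_filter, mem_range]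
  exact ⟨fun ⟨h, h'⟩ => ⟨⟨p, h⟩, h', rfl⟩, fun ⟨i, h, e⟩ => e ▸ ⟨i.2, h⟩⟩

theorem complete_cands0 (v k t : ℕ) (init : List ℕ) : Complete v k t init (cands0 v k t init) := by
  intro B hB hinit s hsB hne
  obtain ⟨x, hx, rfl⟩ := exists_mask s
  refine ⟨x, mem_gen _ x ?_ v k 0 ?_ ?_, hx, rfl⟩
  · intro y hy
    have hyx : y &&& x = y := Nat.eq_of_testBit_eq fun p => by
      rw [Nat.testBit_and]
      cases h : y.testBit p
      · simp
      · simp [hy p h]
    rw [compat, allB_eq, List.all_eq_true]
    intro b hb
    apply wlt_and_of_card_lt (v := v) (hyx ▸ Nat.and_le_right.trans_lt hx)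
    refine lt_of_le_of_lt (card_le_card (inter_subset_inter_right fun i hi => ?_))
      (card_inter_lt_of_ne hB hsB (hinit b hb) (hne b hb))
    rw [mem_dec] at hi ⊢
    exact hy _ hi
  · intro p
    by_cases hp : v ≤ p
    · simp [Nat.testBit_lt_two_pow (hx.trans_le (Nat.pow_le_pow_right two_pos hp))]
    · simp [hp]
  · rw [card_filter_range_testBit, hB.1 _ hsB]

theorem oddW_iff : ∀ n x : ℕ, x.bitIndices.length ≤ n →
    oddW n x = decide (Odd x.bitIndices.length) := by
  intro n
  induction n with
  | zero =>
    intro x hx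
    rw [Nat.le_zero.mp hx]
    rfl
  | succ n ih =>
    intro x hx
    rcases eq_or_ne x 0 with rfl | h0
    · simp [oddW_succ]
    · have h := length_bitIndices_clear x h0
      rw [oddW_succ, if_neg h0, ih _ (by omega), ← h]
      simp [Nat.odd_add_one, ← Nat.not_even_iff_odd]

theorem mem_genLv (ok : ℕ → ℕ → Bool) (x : ℕ)
    (hok : ∀ i y, (∀ p, y.testBit p = (decide (i ≤ p) && x.testBit p)) → ok i y = true) :
    ∀ i j m, (∀ p, m.testBit p = (decide (i ≤ p) && x.testBit p)) →
      ((range i).filter fun p => x.testBit p).card = j → x ∈ genLv ok i j m := by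
  intro i
  induction i with
  | zero =>
    intro j m hm hj
    have : x = m := Nat.eq_of_testBit_eq fun p => by simp [hm p]
    subst this
    simp at hj
    simp [genLv_zero, ← hj]
  | succ i ih =>
    intro j m hm hj
    rcases eq_or_ne j 0 with rfl | hj0
    · have : x = m := Nat.eq_of_testBit_eq fun p => by
        rw [hm p]
        by_cases hp : i + 1 ≤ p
        · simp [hp]
        · rw [card_eq_zero, filter_eq_empty_iff] at hj
          have := hj (mem_range.mpr (by omega : p < i + 1))
          simp [this]
      subst this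
      simp [genLv_succ]
    · rw [genLv_succ, if_neg hj0, List.mem_append]
      rw [range_add_one, filter_insert] at hj
      by_cases hxi : x.testBit i = true
      · right
        rw [if_pos hxi, card_insert_of_notMem (by simp)] at hj
        have hm' : ∀ p, (m ||| 2 ^ i).testBit p = (decide (i ≤ p) && x.testBit p) := by
          intro p
          rw [Nat.testBit_or, hm, Nat.testBit_two_pow]
          by_cases hp : i = p
          · subst hp; simp [hxi]
          · have : decide (i + 1 ≤ p) = decide (i ≤ p) := by
              simp only [decide_eq_decide]; omega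
            rw [this]; simp [hp]
        rw [if_pos (hok _ _ hm')]
        exact ih (j - 1) _ hm' (by omega)
      · left
        rw [if_neg hxi] at hj
        have hm' : ∀ p, m.testBit p = (decide (i ≤ p) && x.testBit p) := by
          intro p
          rw [hm p]
          by_cases hp : i = p
          · subst hp; simp [hxi]
          · have : decide (i + 1 ≤ p) = decide (i ≤ p) := by
              simp only [decide_eq_decide]; omega
            rw [this]
        rw [if_pos (hok _ _ hm')]
        exact ih j m hm' hj

theorem odd_card_inter_eqOfSel (s : Finset (Fin v)) (q : Bool) :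
    ∀ sel : List ℕ, (∀ b ∈ sel, decide (Odd (s ∩ dec v b).card) = q) →
      decide (Odd (s ∩ dec v (eqOfSel q sel).1).card) = (eqOfSel q sel).2
  | [], _ => by
    have : dec v 0 = ∅ := by ext i; simp
    simp [eqOfSel, this]
  | b :: bs, h => by
    have h1 := h b List.mem_cons_self
    have h2 := odd_card_inter_eqOfSel s q bs fun c hc => h c (List.mem_cons_of_mem _ hc)
    rw [eqOfSel]
    simp only
    set A := s ∩ dec v b
    set C := s ∩ dec v (eqOfSel q bs).1
    have e : s ∩ dec v (b ^^^ (eqOfSel q bs).1) = (A \ C) ∪ (C \ A) := by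
      ext i
      simp only [A, C, mem_inter, mem_dec, mem_union, mem_sdiff, Nat.testBit_xor]
      cases b.testBit i <;> cases ((eqOfSel q bs).1).testBit i <;> simp <;> tauto
    rw [e, card_union_of_disjoint disjoint_sdiff_sdiff, ← h2, ← h1]
    have h3 := card_sdiff_add_card_inter A C
    have h4 := card_sdiff_add_card_inter C A
    rw [inter_comm C A] at h4
    simp only [Nat.odd_iff]
    rw [Bool.eq_iff_iff]
    simp only [Bool.xor_iff_ne, ne_eq, decide_eq_decide, decide_eq_true_eq]
    omega

theorem complete_candsLin {q : Bool} {init : List ℕ} {sels : List (List ℕ)}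
    (hq : ∀ B : Set (Finset (Fin v)), Cfsg.IsSteinerSystem t k B →
      ∀ s ∈ B, ∀ c ∈ B, s ≠ c → decide (Odd (s ∩ c).card) = q)
    (hsel : (sels.all fun sel => sel.all fun b => init.contains b) = true) :
    Complete v k t init (candsLin v k t q init sels) := by
  intro B hB hinit s hsB hne
  simp only [List.all_eq_true, List.contains_iff_mem] at hsel
  obtain ⟨x, hx, rfl⟩ := exists_mask s
  refine ⟨x, List.mem_filter.mpr ⟨mem_genLv _ x ?_ v k 0 ?_ ?_, ?_⟩, hx, rfl⟩
  · intro i y hy
    rw [eqOk, allB_eq, List.all_eq_true]
    intro e he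
    obtain ⟨sel, hs, rfl⟩ := List.mem_map.mp he
    cases hlow : Nat.beq _ _ with
    | false => rfl
    | true =>
      have hlow' := Nat.eq_of_beq_eq_true hlow
      set e := (eqOfSel q sel).1 with hedef
      have hbits : ∀ p < i, e.testBit p = false := fun p hp => low_bit_spec e i hlow' p hp
      have hand : y &&& e = x &&& e := Nat.eq_of_testBit_eq fun p => by
        rw [Nat.testBit_and, Nat.testBit_and, hy p]
        by_cases hp : i ≤ p
        · simp [hp]
        · simp [hp, hbits p (by omega)]
      show (oddW v (y &&& e) == _) = true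
      have hlt : x &&& e < 2 ^ v := Nat.and_le_left.trans_lt hx
      rw [hand, beq_iff_eq, oddW_iff _ _ (by rw [← card_dec hlt]; exact (card_le_univ _).trans_eq (Fintype.card_fin v)),
        ← card_dec hlt, dec_and, hedef,
        odd_card_inter_eqOfSel (dec v x) q sel fun b hb =>
          hq B hB _ hsB _ (hinit b (hsel sel hs b hb)) (hne b (hsel sel hs b hb))]
  · intro p
    by_cases hp : v ≤ p
    · simp [Nat.testBit_lt_two_pow (hx.trans_le (Nat.pow_le_pow_right two_pos hp))]
    · simp [hp]
  · rw [card_filter_range_testBit, hB.1 _ hsB]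
  · rw [compat, allB_eq, List.all_eq_true]
    exact fun b hb => wlt_and_of_card_lt hx
      (card_inter_lt_of_ne hB hsB (hinit b hb) (hne b hb))

theorem steiner_image {α β : Type*} [DecidableEq α] [DecidableEq β] {B : Set (Finset α)}
    (hB : Cfsg.IsSteinerSystem t k B) (e : α ≃ β) :
    Cfsg.IsSteinerSystem t k ((fun b => b.image e) '' B) := by
  refine ⟨?_, ?_⟩
  · rintro _ ⟨b, hb, rfl⟩
    show (b.image e).card = k
    rw [card_image_of_injective _ e.injective, hB.1 b hb]
  · intro s hs
    obtain ⟨b, ⟨hb, hsb⟩, huniq⟩ := hB.2 (s.image e.symm)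
      (by rw [card_image_of_injective _ e.symm.injective, hs])
    refine ⟨b.image e, ⟨⟨b, hb, rfl⟩, fun x hx => ?_⟩, ?_⟩
    · exact mem_image.mpr ⟨e.symm x, hsb (mem_image_of_mem _ hx), e.apply_symm_apply x⟩
    · rintro _ ⟨⟨c, hc, rfl⟩, hsc⟩
      rw [huniq c ⟨hc, fun x hx => ?_⟩]
      obtain ⟨y, hy, rfl⟩ := mem_image.mp hx
      obtain ⟨z, hz, hzy⟩ := mem_image.mp (hsc hy)
      rw [← hzy, e.symm_apply_apply]; exact hz

theorem sum_val_swap_lt {s : Finset (Fin v)} {i j : Fin v} (hij : i < j) (hj : j ∈ s)
    (hi : i ∉ s) :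
    ∑ x ∈ s.image (Equiv.swap i j), (x : ℕ) < ∑ x ∈ s, (x : ℕ) := by
  rw [sum_image (Equiv.injective _).injOn]
  refine sum_lt_sum (fun x hx => ?_) ⟨j, hj, by rw [Equiv.swap_apply_right]; exact hij⟩
  rcases eq_or_ne x j with rfl | hxj
  · rw [Equiv.swap_apply_right]; exact le_of_lt hij
  · rw [Equiv.swap_apply_of_ne_of_ne (fun e => hi (by rw [← e]; exact hx)) hxj]

theorem dec_image_swap {m : ℕ} {i j : Fin v} (h : m.testBit i = m.testBit j) :
    (dec v m).image (Equiv.swap i j) = dec v m := by
  ext x
  simp only [mem_image, mem_dec]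
  constructor
  · rintro ⟨y, hy, rfl⟩
    rw [Equiv.swap_apply_def]
    split_ifs with h1 h2
    · subst h1; rw [← h]; exact hy
    · subst h2; rw [h]; exact hy
    · exact hy
  · intro hx
    refine ⟨Equiv.swap i j x, ?_, Equiv.swap_apply_self _ _ _⟩
    rw [Equiv.swap_apply_def]
    split_ifs with h1 h2
    · subst h1; rw [← h]; exact hx
    · subst h2; rw [h]; exact hx
    · exact hx

theorem search_sound {sym : Bool} {perms : List (List ℕ)} {model : List ℕ}
    (hcard : ∀ B : Set (Finset (Fin v)), Cfsg.IsSteinerSystem t k B →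
      (blocksOf B).card = model.length) :
    ∀ (n : ℕ) (cands acc : List ℕ),
      search v t sym (leafOk v perms model) n cands acc = true →
      (∀ π ∈ perms, isPerm v π = true) → Complete v k t acc cands →
      ∀ B : Set (Finset (Fin v)), Cfsg.IsSteinerSystem t k B → (∀ b ∈ acc, dec v b ∈ B) →
        ∃ e : Equiv.Perm (Fin v), ∀ s ∈ B, s.image e ∈ decSet v model := by
  intro n
  induction n with
  | zero => simp [search]
  | succ n ih =>
    intro cands acc hsearch hperms hcompl B hB hacc
    cases cands with
    | nil =>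
      have hsub : ∀ s ∈ B, ∃ b ∈ acc, dec v b = s := by
        intro s hs
        by_contra h
        push Not at h
        obtain ⟨x, hx, -⟩ := hcompl B hB hacc s hs fun b hb => Ne.symm (h b hb)
        simp at hx
      simp only [search, leafOk, Bool.or_eq_true, decide_eq_true_eq, List.any_eq_true,
        List.all_eq_true, List.contains_iff_mem] at hsearch
      rcases hsearch with hlt | ⟨π, hπ, hall⟩
      · exfalso
        have h1 : blocksOf B ⊆ acc.toFinset.image (dec v) := fun s hs => by
          obtain ⟨b, hb, rfl⟩ := hsub s (mem_blocksOf.mp hs)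
          exact mem_image_of_mem _ (List.mem_toFinset.mpr hb)
        have := (card_le_card h1).trans (card_image_le.trans acc.toFinset_card_le)
        have := hcard B hB
        omega
      obtain ⟨e, -, he⟩ := exists_perm_of_isPerm (hperms π hπ)
      refine ⟨e, fun s hs => ?_⟩
      obtain ⟨b, hb, rfl⟩ := hsub s hs
      exact ⟨_, hall b hb, he b⟩
    | cons hd tl =>
      simp only [search, Bool.and_eq_true, List.all_eq_true, List.mem_filter, Bool.or_eq_true,
        Bool.not_eq_true', decide_eq_true_eq, bne_iff_ne, beq_iff_eq] at hsearch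
      obtain ⟨⟨⟨⟨⟨hT, hT1⟩, hT2⟩, hTacc⟩, hpairs⟩, hall⟩ := hsearch
      set T := minLow t tl (lowBits t hd) with hTdef
      set pairs := (if sym = true then symPairs v (T :: acc) else []) with hpdef
      rw [wlt_iff, ← card_dec hT] at hT1
      have hTt : (dec v T).card = t := by
        have : ¬ T.bitIndices.length < t := by rw [← wlt_iff, hT2]; simp
        rw [← card_dec hT] at this
        omega
      suffices key : ∀ (w : ℕ) (B : Set (Finset (Fin v))), Cfsg.IsSteinerSystem t k B →
          (∀ b ∈ acc, dec v b ∈ B) → ∀ s ∈ B, dec v T ⊆ s → ∑ i ∈ s, (i : ℕ) = w →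
          ∃ e : Equiv.Perm (Fin v), ∀ s ∈ B, s.image e ∈ decSet v model by
        obtain ⟨s, ⟨hs, hTs⟩, -⟩ := hB.2 (dec v T) hTt
        exact key _ B hB hacc s hs hTs rfl
      intro w
      induction w using Nat.strong_induction_on with
      | _ w ihw =>
        intro B hB hacc s hs hTs hw
        have hnot : ∀ b ∈ acc, s ≠ dec v b := by
          intro b hb e
          apply hTacc b hb
          refine bit_ext (v := v) (Nat.and_le_left.trans_lt hT) hT fun i hi => ?_
          rw [Nat.testBit_and]
          cases h : T.testBit i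
          · simp
          · have := hTs (show (⟨i, hi⟩ : Fin v) ∈ dec v T by simp [h])
            rw [e, mem_dec] at this
            simp [this]
        obtain ⟨x, hx, hxlt, rfl⟩ := hcompl B hB hacc s hs hnot
        have hxT : x &&& T = T := bit_ext (v := v) (Nat.and_le_right.trans_lt hT) hT fun i hi => by
          rw [Nat.testBit_and]
          cases h : T.testBit i
          · simp
          · have := hTs (show (⟨i, hi⟩ : Fin v) ∈ dec v T by simp [h])
            rw [mem_dec] at this
            simp [this]
        rcases hall x ⟨hx, hxT⟩ with hcanon | hrec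
        · simp only [canon, List.all_eq_false] at hcanon
          obtain ⟨⟨i, j⟩, hp, hij⟩ := hcanon
          obtain ⟨⟨hlt, hjv⟩, hsig⟩ := hpairs (i, j) hp
          simp only [Bool.not_eq_true, Bool.or_eq_false_iff, Bool.not_eq_false'] at hij
          simp only [sameSig, List.all_eq_true, beq_iff_eq] at hsig
          set σ : Equiv.Perm (Fin v) := Equiv.swap ⟨i, hlt.trans hjv⟩ ⟨j, hjv⟩ with hσ
          have hfix : ∀ b ∈ T :: acc, (dec v b).image σ = dec v b := fun b hb =>
            dec_image_swap (hsig b hb)
          obtain ⟨e, he⟩ := ihw (∑ i ∈ (dec v x).image σ, (i : ℕ))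
            (hw ▸ sum_val_swap_lt (Fin.mk_lt_mk.mpr hlt) (by simp [hij.1]) (by simp [hij.2]))
            _ (steiner_image hB σ)
            (fun b hb => ⟨dec v b, hacc b hb, hfix b (List.mem_cons_of_mem _ hb)⟩)
            ((dec v x).image σ) ⟨_, hs, rfl⟩
            (by rw [← hfix T List.mem_cons_self]; exact image_subset_image hTs) rfl
          refine ⟨σ.trans e, fun c hc => ?_⟩
          have h2 := he (c.image σ) ⟨c, hc, rfl⟩
          rwa [image_image] at h2
        · refine ih _ _ hrec hperms ?_ B hB ?_
          · intro B' hB' hB'' c hc hne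
            obtain ⟨y, hy, hylt, rfl⟩ := hcompl B' hB'
              (fun b hb => hB'' b (List.mem_cons_of_mem _ hb)) c hc
              fun b hb => hne b (List.mem_cons_of_mem _ hb)
            refine ⟨y, List.mem_filter.mpr ⟨hy, ?_⟩, hylt, rfl⟩
            exact wlt_and_of_card_lt hylt
              (card_inter_lt_of_ne hB' hc (hB'' x List.mem_cons_self) (hne x List.mem_cons_self))
          · intro b hb
            rcases List.mem_cons.mp hb with rfl | hb
            · exact hs
            · exact hacc b hb

/-- A successful search carries every Steiner system through `init` onto the model. -/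
theorem exists_perm_of_checkUnique {sym : Bool} {init cands : List ℕ} {perms : List (List ℕ)}
    {model : List ℕ} {fuel : ℕ} (hcands : Complete v k t init cands)
    (h : checkUnique v t sym init cands perms model fuel = true)
    {B : Set (Finset (Fin v))} (hB : Cfsg.IsSteinerSystem t k B)
    (hinit : ∀ b ∈ init, dec v b ∈ B)
    (hlen : model.length * k.choose t = v.choose t) (hpos : 0 < k.choose t) :
    ∃ e : Equiv.Perm (Fin v), (fun s : Finset (Fin v) => s.image e) '' B = decSet v model := by
  rw [checkUnique, Bool.and_eq_true, List.all_eq_true] at h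
  have hcard : ∀ B : Set (Finset (Fin v)), Cfsg.IsSteinerSystem t k B →
      (blocksOf B).card = model.length := by
    intro B hB
    rw [← card_blocksThru_eq hB (card_empty (α := Fin v)) (Fintype.card_fin v) model.length
      (Nat.zero_le t) (by simpa using hpos) (by simpa using hlen), blocksThru,
      filter_true_of_mem (fun b _ => empty_subset b)]
  obtain ⟨e, he⟩ := search_sound hcard fuel _ _ h.2 h.1 hcands B hB hinit
  refine ⟨e, ?_⟩
  have hsub : (fun s : Finset (Fin v) => s.image e) '' B ⊆ decSet v model := by
    rintro _ ⟨s, hs, rfl⟩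
    exact he s hs
  refine Set.eq_of_subset_of_ncard_le hsub ?_ (Set.toFinite _)
  rw [Set.ncard_image_of_injective _ (Finset.image_injective e.injective)]
  have hdecl : decSet v model = ↑(model.toFinset.image (dec v)) := by
    ext s; simp [decSet]
  rw [hdecl, Set.ncard_coe_finset]
  refine (card_image_le.trans model.toFinset_card_le).trans (le_of_eq ?_)
  rw [← hcard B hB, ← Set.ncard_coe_finset]
  congr 1
  ext; simp

/-- The system on the remaining points derived at the last point. -/
def lastDerived {v : ℕ} (B : Set (Finset (Fin (v + 1)))) : Set (Finset (Fin v)) :=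
  {s | insert (Fin.last v) (s.map Fin.castSuccEmb) ∈ B}

theorem last_notMem_map {v : ℕ} (s : Finset (Fin v)) :
    Fin.last v ∉ s.map Fin.castSuccEmb := by
  simp

theorem steiner_lastDerived {B : Set (Finset (Fin (v + 1)))}
    (hB : Cfsg.IsSteinerSystem (t + 1) (k + 1) B) : Cfsg.IsSteinerSystem t k (lastDerived B) := by
  refine ⟨fun s hs => ?_, fun s hs => ?_⟩
  · have := hB.1 _ hs
    rw [card_insert_of_notMem (last_notMem_map s), card_map] at this
    omega
  · obtain ⟨b, ⟨hb, hsb⟩, huniq⟩ := hB.2 (insert (Fin.last v) (s.map Fin.castSuccEmb))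
      (by rw [card_insert_of_notMem (last_notMem_map s), card_map, hs])
    rw [insert_subset_iff] at hsb
    have hb' : insert (Fin.last v) ((univ.filter fun i : Fin v => i.castSucc ∈ b).map Fin.castSuccEmb)
        = b := by
      ext x
      refine Fin.lastCases ?_ ?_ x
      · simp [hsb.1]
      · intro i; simp [(Fin.castSucc_lt_last i).ne]
    refine ⟨univ.filter fun i : Fin v => i.castSucc ∈ b, ⟨?_, fun i hi => ?_⟩, ?_⟩
    · show _ ∈ B
      rw [hb']; exact hb
    · exact mem_filter.mpr ⟨mem_univ _, hsb.2 (mem_map_of_mem _ hi)⟩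
    · rintro c ⟨hc, hsc⟩
      have := huniq _ ⟨hc, insert_subset_insert _ (map_subset_map.mpr hsc)⟩
      rw [← hb'] at this
      have := congrArg (Finset.erase · (Fin.last v)) this
      simp only [erase_insert (last_notMem_map _)] at this
      exact map_injective _ this

/-- Extend a permutation by fixing the last point. -/
def liftPerm {v : ℕ} (e : Equiv.Perm (Fin v)) : Equiv.Perm (Fin (v + 1)) :=
  finSuccEquivLast.trans ((Equiv.optionCongr e).trans finSuccEquivLast.symm)

@[simp] theorem liftPerm_castSucc {v : ℕ} (e : Equiv.Perm (Fin v)) (i : Fin v) :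
    liftPerm e i.castSucc = (e i).castSucc := by
  simp [liftPerm]

@[simp] theorem liftPerm_last {v : ℕ} (e : Equiv.Perm (Fin v)) :
    liftPerm e (Fin.last v) = Fin.last v := by
  simp [liftPerm]

theorem dec_succ_or {v x : ℕ} (hx : x < 2 ^ v) :
    dec (v + 1) (x ||| 2 ^ v) = insert (Fin.last v) ((dec v x).map Fin.castSuccEmb) := by
  ext i
  refine Fin.lastCases ?_ ?_ i
  · simp [Nat.testBit_two_pow]
  · intro i
    simp [(Fin.castSucc_lt_last i).ne, Nat.testBit_two_pow, (Nat.ne_of_lt i.2).symm]

/-- The tower step: normalise the derived system at the last point, then search. -/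
theorem exists_perm_step {model : List ℕ}
    (h : ∀ B : Set (Finset (Fin v)), Cfsg.IsSteinerSystem t k B →
      ∃ e : Equiv.Perm (Fin v), (fun s : Finset (Fin v) => s.image e) '' B = decSet v model)
    (hlt : ∀ x ∈ model, x < 2 ^ v)
    {B : Set (Finset (Fin (v + 1)))} (hB : Cfsg.IsSteinerSystem (t + 1) (k + 1) B) :
    ∃ e : Equiv.Perm (Fin (v + 1)),
      ∀ b ∈ model.map (· ||| 2 ^ v), dec (v + 1) b ∈ (fun s : Finset (Fin (v + 1)) => s.image e) '' B := by
  obtain ⟨e, he⟩ := h _ (steiner_lastDerived hB)
  refine ⟨liftPerm e, fun b hb => ?_⟩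
  obtain ⟨x, hx, rfl⟩ := List.mem_map.mp hb
  have hmem : dec v x ∈ decSet v model := ⟨x, hx, rfl⟩
  rw [← he] at hmem
  obtain ⟨s, hs, hse⟩ := hmem
  refine ⟨_, hs, ?_⟩
  rw [dec_succ_or (hlt x hx), ← hse]
  simp only [image_insert, liftPerm_last]
  congr 1
  rw [map_eq_image, map_eq_image, image_image, image_image]
  exact image_congr fun i _ => liftPerm_castSucc e i

/-- Transfer of a normal form on `Fin v` to any two systems. -/
theorem setSystemIso_of_normalForm {M : Set (Finset (Fin v))}
    (h : ∀ B : Set (Finset (Fin v)), Cfsg.IsSteinerSystem t k B →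
      ∃ e : Equiv.Perm (Fin v), (fun s : Finset (Fin v) => s.image e) '' B = M)
    {α β : Type*} [Fintype α] [DecidableEq α] [Fintype β] [DecidableEq β]
    (hα : Fintype.card α = v) (hβ : Fintype.card β = v) {B : Set (Finset α)}
    {B' : Set (Finset β)} (hB : Cfsg.IsSteinerSystem t k B)
    (hB' : Cfsg.IsSteinerSystem t k B') : Cfsg.SetSystemIso B B' := by
  let a := Fintype.equivFinOfCardEq hα
  let b := Fintype.equivFinOfCardEq hβ
  obtain ⟨e, he⟩ := h _ (steiner_image hB a)
  obtain ⟨f, hf⟩ := h _ (steiner_image hB' b)
  refine ⟨(a.trans e).trans (b.trans f).symm, ?_⟩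
  have h2 : (fun s : Finset α => s.image (a.trans e)) '' B
      = (fun s : Finset β => s.image (b.trans f)) '' B' := by
    rw [Set.image_image] at he hf
    simp only [image_image] at he hf
    exact he.trans hf.symm
  have h3 : (fun s : Finset α => s.image ((a.trans e).trans (b.trans f).symm))
      = (fun s : Finset (Fin v) => s.image (b.trans f).symm) ∘ (fun s : Finset α => s.image (a.trans e)) := by
    funext s
    rw [Function.comp, image_image]
    rfl
  rw [h3, Set.image_comp, h2, Set.image_image]
  convert Set.image_id B' using 2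
  rw [image_image, Equiv.symm_comp_self, image_id, id_eq]

end Cfsg.Agent.Steiner
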