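import Mathlib
import Cfsg.Agent.Lib.Steiner.Search
import Cfsg.Agent.Lib.Steiner.Inter

set_option autoImplicit false

/-! Basic structure of a Steiner system `S(5, 8, 24)`. -/

namespace Cfsg.Agent.Steiner

open Finset
open scoped symmDiff

variable {α : Type*} [Fintype α] [DecidableEq α] {B : Set (Finset α)}

theorem card_symmDiff_add (A C : Finset α) :
    (A ∆ C).card + 2 * (A ∩ C).card = A.card + C.card := by
  rw [symmDiff_def, sup_eq_union, card_union_of_disjoint disjoint_sdiff_sdiff]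
  have h3 := card_sdiff_add_card_inter A C
  have h4 := card_sdiff_add_card_inter C A
  rw [inter_comm C A] at h4
  omega

theorem card_inter_symmDiff_mod (X A C : Finset α) :
    (X ∩ (A ∆ C)).card % 2 = ((X ∩ A).card + (X ∩ C).card) % 2 := by
  have h := card_symmDiff_add (X ∩ A) (X ∩ C)
  have e : (X ∩ A) ∆ (X ∩ C) = X ∩ (A ∆ C) := (inf_symmDiff_distrib_left X A C).symm
  rw [e] at h
  omega

variable (hα : Fintype.card α = 24) (hB : Cfsg.IsSteinerSystem 5 8 B)
include hα hB

theorem s24_lam {b T : Finset α} (hb : b ∈ B) (hT : T ⊆ b) :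
    ((blocksThru B T).card : ℤ) = ([759, 253, 77, 21, 5].getD T.card 1 : ℕ) := by
  obtain h0 | h0 | h0 | h0 | h0 | h0 :
      T.card = 0 ∨ T.card = 1 ∨ T.card = 2 ∨ T.card = 3 ∨ T.card = 4 ∨ 5 ≤ T.card := by omega
  · rw [card_blocksThru_eq hB h0 hα 759 (by decide) (by decide) (by decide), h0]; rfl
  · rw [card_blocksThru_eq hB h0 hα 253 (by decide) (by decide) (by decide), h0]; rfl
  · rw [card_blocksThru_eq hB h0 hα 77 (by decide) (by decide) (by decide), h0]; rfl
  · rw [card_blocksThru_eq hB h0 hα 21 (by decide) (by decide) (by decide), h0]; rfl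
  · rw [card_blocksThru_eq hB h0 hα 5 (by decide) (by decide) (by decide), h0]; rfl
  · rw [card_blocksThru_of_subset_block hB hb hT h0, List.getD_eq_default _ _ (by simpa using h0)]

/-- Distinct blocks meet in 0, 2 or 4 points. -/
theorem s24_inter {b c : Finset α} (hb : b ∈ B) (hc : c ∈ B) (hne : c ≠ b) :
    (c ∩ b).card = 0 ∨ (c ∩ b).card = 2 ∨ (c ∩ b).card = 4 := by
  have hlt := card_inter_lt_card hB hb hc hne
  have h := fun i => inter_card_ne (B := B) (k := 8) (i := i)
    (fun n => (([759, 253, 77, 21, 5] : List ℕ).getD n 1 : ℕ)) hb hc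
    (fun T hT => s24_lam hα hB hb hT) (hB.1 b hb)
  have := h 1 (by decide)
  have := h 3 (by decide)
  have := h 5 (by decide)
  have := h 6 (by decide)
  have := h 7 (by decide)
  omega

theorem s24_inter_even {b c : Finset α} (hb : b ∈ B) (hc : c ∈ B) : Even (c ∩ b).card := by
  by_cases h : c = b
  · subst h; rw [inter_self, hB.1 c hc]; decide
  · rcases s24_inter hα hB hb hc h with h | h | h <;> rw [h] <;> decide

/-- No 4-set meets every block evenly. -/
theorem s24_no_even_tetrad {Y : Finset α} (hY : Y.card = 4) :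
    ∃ e ∈ B, ¬ Even (e ∩ Y).card := by
  obtain ⟨y, hy⟩ := card_pos.mp (show 0 < Y.card by omega)
  have hR : (Y.erase y).card = 3 := by rw [card_erase_of_mem hy, hY]
  have h21 := card_blocksThru_eq hB hR hα 21 (by decide) (by decide) (by decide)
  have h5 := card_blocksThru_eq hB hY hα 5 (by decide) (by decide) (by decide)
  obtain ⟨e, he, he'⟩ : ∃ e ∈ blocksThru B (Y.erase y), e ∉ blocksThru B Y := by
    by_contra h
    push Not at h
    have := card_le_card h
    omega
  rw [mem_blocksThru] at he he'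
  refine ⟨e, he.1, ?_⟩
  have hye : y ∉ e := fun h => he' ⟨he.1, fun z hz => by
    by_cases hzy : z = y
    · exact hzy ▸ h
    · exact he.2 (mem_erase.mpr ⟨hzy, hz⟩)⟩
  have : e ∩ Y = Y.erase y := by
    ext z
    simp only [mem_inter, mem_erase]
    exact ⟨fun h => ⟨fun h' => hye (h' ▸ h.1), h.2⟩, fun h => ⟨he.2 (mem_erase.mpr h), h.2⟩⟩
  rw [this, hR]
  decide

/-- Two blocks meeting in four points have a block as symmetric difference. -/
theorem s24_symmDiff {b c : Finset α} (hb : b ∈ B) (hc : c ∈ B) (h4 : (b ∩ c).card = 4) :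
    b ∆ c ∈ B := by
  have hX8 : (b ∆ c).card = 8 := by
    have := card_symmDiff_add b c
    rw [h4, hB.1 b hb, hB.1 c hc] at this
    omega
  obtain ⟨F, hF, hF5⟩ := exists_subset_card_eq (show 5 ≤ (b ∆ c).card by omega)
  obtain ⟨d, ⟨hd, hFd⟩, -⟩ := hB.2 F hF5
  have h5 : 5 ≤ (d ∩ (b ∆ c)).card := hF5 ▸ card_le_card (subset_inter hFd hF)
  have h8 : (d ∩ (b ∆ c)).card ≤ 8 := (card_le_card inter_subset_right).trans hX8.le
  have he : (d ∩ (b ∆ c)).card % 2 = 0 := by
    rw [card_inter_symmDiff_mod]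
    have h1 := Nat.even_iff.mp (s24_inter_even hα hB hb hd)
    have h2 := Nat.even_iff.mp (s24_inter_even hα hB hc hd)
    omega
  rcases (show (d ∩ (b ∆ c)).card = 6 ∨ (d ∩ (b ∆ c)).card = 8 by omega) with h6 | h8'
  · exfalso
    have hY : (d ∆ (b ∆ c)).card = 4 := by
      have := card_symmDiff_add d (b ∆ c)
      rw [h6, hB.1 d hd, hX8] at this
      omega
    obtain ⟨e, hee, hne⟩ := s24_no_even_tetrad hα hB hY
    apply hne
    rw [Nat.even_iff, card_inter_symmDiff_mod]
    have h1 := Nat.even_iff.mp (s24_inter_even hα hB hd hee)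
    have h2 := card_inter_symmDiff_mod e b c
    have h3 := Nat.even_iff.mp (s24_inter_even hα hB hb hee)
    have h4' := Nat.even_iff.mp (s24_inter_even hα hB hc hee)
    omega
  · have e1 : d ∩ (b ∆ c) = b ∆ c := eq_of_subset_of_card_le inter_subset_right (by omega)
    have e2 : d ∩ (b ∆ c) = d := eq_of_subset_of_card_le inter_subset_left (by rw [hB.1 d hd]; omega)
    rw [← e1, e2]
    exact hd

/-- A block missing `p` is a symmetric difference of two blocks through `p`. -/
theorem s24_decompose {c : Finset α} (hc : c ∈ B) {p : α} (hp : p ∉ c) :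
    ∃ b b', b ∈ B ∧ b' ∈ B ∧ p ∈ b ∧ p ∈ b' ∧ (b ∩ b').card = 4 ∧ b ∆ b' = c := by
  obtain ⟨Q, hQ, hQ4⟩ := exists_subset_card_eq (show 4 ≤ c.card by rw [hB.1 c hc]; omega)
  obtain ⟨b, ⟨hb, hsub⟩, -⟩ := hB.2 (insert p Q)
    (by rw [card_insert_of_notMem (fun h => hp (hQ h)), hQ4])
  rw [insert_subset_iff] at hsub
  have hne : c ≠ b := fun h => hp (h ▸ hsub.1)
  have h4 : (c ∩ b).card = 4 := by
    have : 4 ≤ (c ∩ b).card := hQ4 ▸ card_le_card (subset_inter hQ hsub.2)
    rcases s24_inter hα hB hb hc hne with h | h | h <;> omega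
  have hbc : b ∆ c ∈ B := s24_symmDiff hα hB hb hc (by rwa [inter_comm])
  refine ⟨b, b ∆ c, hb, hbc, hsub.1, mem_symmDiff.mpr (Or.inl ⟨hsub.1, hp⟩), ?_,
    symmDiff_symmDiff_cancel_left b c⟩
  have e : b ∩ (b ∆ c) = b \ c := by
    ext x
    simp only [mem_inter, mem_symmDiff, mem_sdiff]
    tauto
  have h5 := card_sdiff_add_card_inter b c
  rw [inter_comm] at h4
  rw [e]
  have := hB.1 b hb
  omega

/-- An `S(5, 8, 24)` is determined by its blocks through one point. -/
theorem s24_subset {B' : Set (Finset α)} (hB' : Cfsg.IsSteinerSystem 5 8 B') {p : α}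
    (h : ∀ b ∈ B, p ∈ b → b ∈ B') : B ⊆ B' := by
  intro c hc
  by_cases hp : p ∈ c
  · exact h c hc hp
  · obtain ⟨b, b', hb, hb', hpb, hpb', h4, rfl⟩ := s24_decompose hα hB hc hp
    exact s24_symmDiff hα hB' (h b hb hpb) (h b' hb' hpb') h4

end Cfsg.Agent.Steiner
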