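import Mathlib
import Cfsg.Agent.Lib.Steiner.S5824
import Cfsg.Agent.Lib.Steiner.Models23

set_option autoImplicit false

/-! Uniqueness of the Steiner system `S(5, 8, 24)`. -/

namespace Cfsg.Agent.Steiner

open Finset

theorem steiner_eq_of_subset {α : Type*} [Fintype α] [DecidableEq α] {t k : ℕ}
    {B B' : Set (Finset α)} (hB : Cfsg.IsSteinerSystem t k B)
    (hB' : Cfsg.IsSteinerSystem t k B') (htk : t ≤ k) (h : B ⊆ B') : B = B' := by
  refine Set.Subset.antisymm h fun b hb => ?_
  obtain ⟨T, hT, hTt⟩ := exists_subset_card_eq (show t ≤ b.card by rw [hB'.1 b hb]; exact htk)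
  obtain ⟨c, ⟨hc, hTc⟩, -⟩ := hB.2 T hTt
  rwa [(hB'.2 T hTt).unique ⟨hb, hT⟩ ⟨h hc, hTc⟩]

theorem insert_last_filter {v : ℕ} (c : Finset (Fin (v + 1))) (hp : Fin.last v ∈ c) :
    insert (Fin.last v) ((univ.filter fun i : Fin v => i.castSucc ∈ c).map Fin.castSuccEmb)
      = c := by
  ext x
  refine Fin.lastCases ?_ ?_ x
  · simp [hp]
  · intro i; simp [(Fin.castSucc_lt_last i).ne]

/-- Some relabelling gives the derived system at the last point its normal form. -/
theorem exists_lastDerived_eq_model {B : Set (Finset (Fin 24))}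
    (hB : Cfsg.IsSteinerSystem 5 8 B) :
    ∃ e : Equiv.Perm (Fin 24),
      lastDerived ((fun s : Finset (Fin 24) => s.image e) '' B) = decSet 23 model23 := by
  obtain ⟨e, he⟩ := exists_perm_step normalForm23 model23_lt hB
  refine ⟨e, ?_⟩
  have h1 : Cfsg.IsSteinerSystem 4 7 (decSet 23 model23) := by
    obtain ⟨f, hf⟩ := normalForm23 _ (steiner_lastDerived hB)
    rw [← hf]
    exact steiner_image (steiner_lastDerived hB) f
  refine (steiner_eq_of_subset h1 (steiner_lastDerived (steiner_image hB e)) (by decide) ?_).symm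
  rintro _ ⟨x, hx, rfl⟩
  have := he _ (List.mem_map_of_mem hx)
  rw [dec_succ_or (model23_lt x hx)] at this
  exact this

/-- Every two systems `S(5, 8, 24)` are isomorphic. -/
theorem setSystemIso24 {α β : Type*} [Fintype α] [DecidableEq α] [Fintype β] [DecidableEq β]
    (hα : Fintype.card α = 24) (hβ : Fintype.card β = 24) {B : Set (Finset α)}
    {B' : Set (Finset β)} (hB : Cfsg.IsSteinerSystem 5 8 B)
    (hB' : Cfsg.IsSteinerSystem 5 8 B') : Cfsg.SetSystemIso B B' := by
  let a := Fintype.equivFinOfCardEq hα
  let b := Fintype.equivFinOfCardEq hβ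
  obtain ⟨e, he⟩ := exists_lastDerived_eq_model (steiner_image hB a)
  obtain ⟨f, hf⟩ := exists_lastDerived_eq_model (steiner_image hB' b)
  have key : ∀ C C' : Set (Finset (Fin 24)), Cfsg.IsSteinerSystem 5 8 C →
      Cfsg.IsSteinerSystem 5 8 C' → lastDerived C = lastDerived C' → C ⊆ C' := by
    intro C C' hC hC' h
    refine s24_subset (Fintype.card_fin 24) hC hC' (p := Fin.last 23) fun c hc hp => ?_
    have hb' := insert_last_filter c hp
    have h2 : (univ.filter fun i : Fin 23 => i.castSucc ∈ c) ∈ lastDerived C := by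
      show _ ∈ C
      rw [hb']; exact hc
    rw [h] at h2
    change _ ∈ C' at h2
    rwa [hb'] at h2
  have h2 : (fun s : Finset (Fin 24) => s.image e) '' ((fun s : Finset α => s.image a) '' B)
      = (fun s : Finset (Fin 24) => s.image f) '' ((fun s : Finset β => s.image b) '' B') :=
    Set.Subset.antisymm
      (key _ _ (steiner_image (steiner_image hB a) e) (steiner_image (steiner_image hB' b) f)
        (he.trans hf.symm))
      (key _ _ (steiner_image (steiner_image hB' b) f) (steiner_image (steiner_image hB a) e)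
        (hf.trans he.symm))
  refine ⟨(a.trans e).trans (b.trans f).symm, ?_⟩
  rw [Set.image_image, Set.image_image] at h2
  simp only [image_image] at h2
  have h3 : (fun s : Finset α => s.image ((a.trans e).trans (b.trans f).symm))
      = (fun s : Finset (Fin 24) => s.image (b.trans f).symm) ∘
        (fun s : Finset α => s.image (a.trans e)) := by
    funext s
    rw [Function.comp, image_image]
    rfl
  rw [h3, Set.image_comp]
  change (fun s : Finset (Fin 24) => s.image (b.trans f).symm) ''
    ((fun s : Finset α => s.image (e ∘ a)) '' B) = B'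
  rw [h2, Set.image_image]
  convert Set.image_id B' using 2
  rw [image_image]
  exact (image_congr fun x _ => (b.trans f).symm_apply_apply x).trans image_id

end Cfsg.Agent.Steiner
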