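import Cfsg.Agent.Lib.Steiner.Search
import Cfsg.Agent.Lib.Steiner.Inter

set_option autoImplicit false
set_option maxRecDepth 100000

/-! Uniqueness of `S(2, 5, 21)`. -/

namespace Cfsg.Agent.Steiner

/-- Blocks of the model of `S(1, 4, 20)`. -/
def model20 : List ℕ :=
  [15, 240, 3840, 61440, 983040]

/-- Certificates for the leaves of the search for `S(1, 4, 20)`. -/
def perms20 : List (List ℕ) :=
  [[0, 1, 2, 3, 4, 5, 6, 7, 8, 9, 10, 11, 12, 13, 14, 15, 16, 17, 18, 19]]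

theorem model20_lt : ∀ x ∈ model20, x < 2 ^ 20 := by decide +kernel

theorem check20 :
    checkUnique 20 1 true []
      (cands0 20 4 1 []) perms20 model20 8 = true := by
  decide +kernel

/-- Every `S(1, 4, 20)` on `Fin 20` is a relabelling of the model. -/
theorem normalForm20 (B : Set (Finset (Fin 20))) (hB : Cfsg.IsSteinerSystem 1 4 B) :
    ∃ e : Equiv.Perm (Fin 20), (fun s : Finset (Fin 20) => s.image e) '' B = decSet 20 model20 := by
  exact exists_perm_of_checkUnique (complete_cands0 20 4 1 []) check20 hB (by simp) (by decide +kernel) (by decide)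

/-- Blocks of the model of `S(2, 5, 21)`. -/
def model21 : List ℕ :=
  [69905, 75844, 82568, 99362, 136264, 139794, 149537, 164228, 268418, 270632,
    279572, 295489, 528932, 533633, 540994, 559128, 1048591, 1048816, 1052416, 1110016,
    2031616]

/-- Certificates for the leaves of the search for `S(2, 5, 21)`. -/
def perms21 : List (List ℕ) :=
  [[0, 1, 2, 3, 4, 5, 6, 7, 8, 9, 10, 11, 12, 13, 14, 15, 16, 17, 18, 19, 20],
    [0, 1, 2, 3, 4, 5, 7, 6, 8, 9, 10, 11, 12, 13, 14, 15, 16, 17, 18, 19, 20],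
    [0, 1, 2, 3, 4, 5, 6, 7, 12, 13, 14, 15, 8, 9, 10, 11, 16, 17, 18, 19, 20],
    [0, 1, 2, 3, 4, 5, 7, 6, 12, 13, 14, 15, 8, 9, 10, 11, 16, 17, 18, 19, 20],
    [0, 1, 2, 3, 4, 5, 7, 6, 8, 9, 10, 11, 16, 17, 18, 19, 12, 13, 14, 15, 20],
    [0, 1, 2, 3, 4, 5, 6, 7, 8, 9, 10, 11, 16, 17, 18, 19, 12, 13, 14, 15, 20],
    [0, 1, 2, 3, 4, 5, 7, 6, 16, 17, 18, 19, 8, 9, 10, 11, 12, 13, 14, 15, 20],
    [0, 1, 2, 3, 4, 5, 6, 7, 16, 17, 18, 19, 8, 9, 10, 11, 12, 13, 14, 15, 20],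
    [0, 1, 2, 3, 4, 5, 6, 7, 12, 13, 14, 15, 16, 17, 18, 19, 8, 9, 10, 11, 20],
    [0, 1, 2, 3, 4, 5, 7, 6, 12, 13, 14, 15, 16, 17, 18, 19, 8, 9, 10, 11, 20],
    [0, 1, 2, 3, 4, 5, 6, 7, 16, 17, 18, 19, 12, 13, 14, 15, 8, 9, 10, 11, 20],
    [0, 1, 2, 3, 4, 5, 7, 6, 16, 17, 18, 19, 12, 13, 14, 15, 8, 9, 10, 11, 20]]

theorem model21_lt : ∀ x ∈ model21, x < 2 ^ 21 := by decide +kernel

theorem check21 :
    checkUnique 21 2 true (model20.map (· ||| 2 ^ 20))
      (cands0 21 5 2 (model20.map (· ||| 2 ^ 20))) perms21 model21 19 = true := by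
  decide +kernel

/-- Every `S(2, 5, 21)` on `Fin 21` is a relabelling of the model. -/
theorem normalForm21 (B : Set (Finset (Fin 21))) (hB : Cfsg.IsSteinerSystem 2 5 B) :
    ∃ e : Equiv.Perm (Fin 21), (fun s : Finset (Fin 21) => s.image e) '' B = decSet 21 model21 := by
  obtain ⟨e, he⟩ := exists_perm_step normalForm20 model20_lt hB
  obtain ⟨f, hf⟩ := exists_perm_of_checkUnique (complete_cands0 21 5 2 (model20.map (· ||| 2 ^ 20))) check21
    (steiner_image hB e) he (by decide +kernel)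
    (by decide)
  refine ⟨e.trans f, ?_⟩
  rw [← hf, Set.image_image]
  simp only [Finset.image_image]
  rfl

end Cfsg.Agent.Steiner
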