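import Mathlib
import Cfsg.Agent.Lib.Steiner.Search

set_option autoImplicit false

/-! Automorphism groups of coded systems: transitivity and exact order by verified search. -/

namespace Cfsg.Agent.Steiner

open Finset
open scoped Pointwise

/-- Image of a mask under the first entries of a list of point images. -/
def mapFast : List ℕ → ℕ → ℕ :=
  fun π => List.rec (fun _ => 0)
    (fun q _ r y => Nat.lor (cond (Nat.beq (Nat.land y 1) 1) (Nat.pow 2 q) 0) (r (Nat.div y 2))) π

theorem testBit_mapFast : ∀ (π : List ℕ) (y p : ℕ),
    (mapFast π y).testBit p = true ↔ ∃ j < π.length, y.testBit j = true ∧ π.getD j 0 = p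
  | [], y, p => by simp [mapFast]
  | q :: π, y, p => by
    show (cond (Nat.beq (y &&& 1) 1) (2 ^ q) 0 ||| mapFast π (y / 2)).testBit p = true ↔ _
    rw [Nat.testBit_or, Bool.or_eq_true, testBit_mapFast π]
    have h0 : Nat.beq (y &&& 1) 1 = y.testBit 0 := by
      rw [Nat.testBit_zero, Nat.and_one_is_mod]
      rcases Nat.mod_two_eq_zero_or_one y with h | h <;> rw [h] <;> rfl
    rw [h0]
    constructor
    · rintro (h | ⟨j, hj, hy, hp⟩)
      · refine ⟨0, by simp, ?_⟩
        cases hy : y.testBit 0 <;> simp [hy, Nat.testBit_two_pow] at h ⊢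
        exact h
      · exact ⟨j + 1, by simpa using hj, by rwa [Nat.testBit_succ], by simpa using hp⟩
    · rintro ⟨_ | j, hj, hy, hp⟩
      · left; simp at hp; simp [hy, hp]
      · exact Or.inr ⟨j, by simpa using hj, by rwa [← Nat.testBit_succ], by simpa using hp⟩

/-- The tests at point `i`: blocks completed there, and parts of size `t + 1`. -/
def relAt (t : ℕ) (model : List ℕ) (i : ℕ) : List (ℕ × Bool) :=
  (model.filter fun b => b.testBit i).filterMap fun b =>
    let y := b &&& (2 ^ (i + 1) - 1)
    if y == b || (wlt (t + 2) y && !wlt (t + 1) y) then some (y, y == b) else none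

/-- Whether the partial map `pre` passes the tests of a point. -/
def stepOk (model : List ℕ) (R : List (ℕ × Bool)) (pre : List ℕ) : Bool :=
  allB (fun e => cond e.2 (model.contains (mapFast pre e.1))
    (model.any fun z => Nat.beq (Nat.land (mapFast pre e.1) z) (mapFast pre e.1))) R

/-- All extensions of a partial map passing the tests. -/
def autList (v t : ℕ) (model : List ℕ) : ℕ → List ℕ → List (List ℕ)
  | 0, pre => [pre]
  | n + 1, pre =>
    (List.range v).flatMap fun q =>
      if pre.contains q then []
      else if stepOk model (relAt t model pre.length) (pre ++ [q]) then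
        autList v t model n (pre ++ [q]) else []

/-- A list of point images is an automorphism of the coded system. -/
def isAutList (v : ℕ) (model : List ℕ) (π : List ℕ) : Bool :=
  π.length == v && isPerm v π && model.all fun b => model.contains (mapMask v π b)

/-- The certificate: transitivity on ordered `n`-tuples and the list of automorphisms fixing
the first `n` points. -/
def checkAut (v t n : ℕ) (model : List ℕ) (trans : List (List ℕ)) (c : ℕ) : Bool :=
  let L := autList v t model (v - n) (List.range n)
  trans.all (isAutList v model) &&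
    ((List.range n).all fun i => (List.range v).all fun p => decide (p < i) ||
      trans.any fun π => π.getD i 0 == p && (List.range i).all fun j => π.getD j 0 == j) &&
    L.all (fun π => isAutList v model π && (List.range n).all fun j => π.getD j 0 == j) &&
    decide L.Nodup && L.length == c

variable {v : ℕ}

theorem mem_setSystemAut {α : Type*} [Fintype α] [DecidableEq α] {B : Set (Finset α)}
    {σ : Equiv.Perm α} : σ ∈ Cfsg.setSystemAut B ↔ (fun b => b.image σ) '' B = B := by
  rw [MulAction.mem_stabilizer_iff]
  rfl

theorem exists_aut_of_isAutList {model : List ℕ} {π : List ℕ}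
    (h : isAutList v model π = true) :
    ∃ σ ∈ Cfsg.setSystemAut (decSet v model), ∀ i : Fin v, (σ i : ℕ) = π.getD i 0 := by
  simp only [isAutList, Bool.and_eq_true, List.all_eq_true, List.contains_iff_mem] at h
  obtain ⟨σ, hσ, hmap⟩ := exists_perm_of_isPerm h.1.2
  refine ⟨σ, ?_, hσ⟩
  rw [mem_setSystemAut]
  refine Set.eq_of_subset_of_ncard_le ?_ ?_ (Set.toFinite _)
  · rintro _ ⟨_, ⟨b, hb, rfl⟩, rfl⟩
    exact ⟨_, h.2 b hb, hmap b⟩
  · rw [Set.ncard_image_of_injective _ (Finset.image_injective σ.injective)]

theorem mem_autList {t : ℕ} {model : List ℕ} (hlt : ∀ x ∈ model, x < 2 ^ v)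
    {σ : Equiv.Perm (Fin v)} (hσ : σ ∈ Cfsg.setSystemAut (decSet v model)) :
    ∀ (n : ℕ) (pre : List ℕ), pre.length + n = v →
      (∀ j (hj : j < v), j < pre.length → pre.getD j 0 = (σ ⟨j, hj⟩ : ℕ)) →
      List.ofFn (fun i => (σ i : ℕ)) ∈ autList v t model n pre := by
  intro n
  induction n with
  | zero =>
    intro pre hlen hpre
    have : pre = List.ofFn (fun i => (σ i : ℕ)) := by
      refine List.ext_getElem (by simp; omega) fun j h1 h2 => ?_
      have := hpre j (by omega) h1
      rw [List.getD_eq_getElem _ _ h1] at this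
      simp [this]
    simp [autList, this]
  | succ n ih =>
    intro pre hlen hpre
    have hi : pre.length < v := by omega
    set q : ℕ := ((σ ⟨pre.length, hi⟩ : Fin v) : ℕ) with hq
    have hq' : ∀ j (hj : j < v), j < (pre ++ [q]).length →
        (pre ++ [q]).getD j 0 = (σ ⟨j, hj⟩ : ℕ) := by
      intro j hj hjl
      rw [List.length_append, List.length_singleton] at hjl
      rcases lt_or_eq_of_le (Nat.le_of_lt_succ hjl) with h | h
      · rw [List.getD_append _ _ _ _ h, hpre j hj h]
      · subst h; simp [hq]
    rw [autList, List.mem_flatMap]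
    refine ⟨q, List.mem_range.mpr (σ _).2, ?_⟩
    have hnot : pre.contains q = false := by
      rw [Bool.eq_false_iff, ne_eq, List.contains_iff_mem]
      intro hmem
      obtain ⟨j, hj, hjq⟩ := List.getElem_of_mem hmem
      have := hpre j (by omega) hj
      rw [List.getD_eq_getElem _ _ hj, hjq, hq] at this
      exact absurd (congrArg Fin.val (σ.injective (Fin.ext this))) (by simp; omega)
    have hstep : stepOk model (relAt t model pre.length) (pre ++ [q]) = true := by
      rw [stepOk, allB_eq, List.all_eq_true]
      intro e he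
      simp only [relAt, List.mem_filterMap, List.mem_filter] at he
      obtain ⟨b, ⟨hb, -⟩, he⟩ := he
      split at he
      case isFalse => simp at he
      simp only [Option.some.injEq] at he
      subst he
      simp only
      obtain ⟨z, hz, hzdec⟩ : (dec v b).image σ ∈ decSet v model := by
        conv => rw [← mem_setSystemAut.mp hσ]
        exact ⟨_, ⟨b, hb, rfl⟩, rfl⟩
      set y := b &&& (2 ^ (pre.length + 1) - 1) with hy
      set m := mapFast (pre ++ [q]) y with hm
      have hmbit : ∀ p, m.testBit p = true ↔
          ∃ j, ∃ hj : j < v, j ≤ pre.length ∧ b.testBit j = true ∧ (σ ⟨j, hj⟩ : ℕ) = p := by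
        intro p
        rw [hm, testBit_mapFast]
        simp only [hy, Nat.testBit_and, Nat.testBit_two_pow_sub_one, Bool.and_eq_true,
          decide_eq_true_eq, List.length_append, List.length_singleton]
        constructor
        · rintro ⟨j, hj, ⟨hb', -⟩, rfl⟩
          exact ⟨j, by omega, by omega, hb', (hq' j (by omega) (by simp; omega)).symm⟩
        · rintro ⟨j, hj, hjl, hb', rfl⟩
          exact ⟨j, by omega, ⟨hb', by omega⟩, hq' j hj (by simp; omega)⟩
      have hzbit : ∀ p, z.testBit p = true ↔
          ∃ j, ∃ hj : j < v, b.testBit j = true ∧ (σ ⟨j, hj⟩ : ℕ) = p := by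
        intro p
        by_cases hp : p < v
        · have h' := Finset.ext_iff.mp hzdec ⟨p, hp⟩
          simp only [mem_dec, mem_image] at h'
          rw [h']
          constructor
          · rintro ⟨⟨j, hj⟩, hb', e⟩
            exact ⟨j, hj, hb', congrArg Fin.val e⟩
          · rintro ⟨j, hj, hb', e⟩
            exact ⟨⟨j, hj⟩, hb', Fin.ext e⟩
        · rw [Nat.testBit_lt_two_pow ((hlt z hz).trans_le
            (Nat.pow_le_pow_right two_pos (Nat.le_of_not_lt hp)))]
          simp only [Bool.false_eq_true, false_iff, not_exists, not_and]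
          intro j hj _ e
          exact hp (e ▸ (σ _).2)
      have hmz : ∀ p, m.testBit p = true → z.testBit p = true := by
        intro p hp
        obtain ⟨j, hj, -, hb', e⟩ := (hmbit p).mp hp
        exact (hzbit p).mpr ⟨j, hj, hb', e⟩
      cases hfull : (y == b)
      · show (model.any fun z => Nat.beq (Nat.land m z) m) = true
        rw [List.any_eq_true]
        refine ⟨z, hz, ?_⟩
        have hmzeq : m &&& z = m := Nat.eq_of_testBit_eq fun p => by
          rw [Nat.testBit_and]
          cases h : m.testBit p
          · simp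
          · simp [hmz p h]
        show Nat.beq (m &&& z) m = true
        rw [hmzeq]
        exact Nat.beq_refl m
      · show model.contains m = true
        rw [List.contains_iff_mem]
        have hzm : m = z := Nat.eq_of_testBit_eq fun p => by
          refine Bool.eq_iff_iff.mpr ⟨hmz p, fun hp => ?_⟩
          obtain ⟨j, hj, hb', e⟩ := (hzbit p).mp hp
          refine (hmbit p).mpr ⟨j, hj, ?_, hb', e⟩
          have : y.testBit j = true := by rw [beq_iff_eq.mp hfull]; exact hb'
          simp only [hy, Nat.testBit_and, Nat.testBit_two_pow_sub_one, Bool.and_eq_true,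
            decide_eq_true_eq] at this
          omega
        rw [hzm]; exact hz
    rw [if_neg (by simp only [hnot, Bool.false_eq_true, not_false_eq_true]), if_pos hstep]
    exact ih _ (by simp; omega) hq'

/-- What a successful certificate says about the automorphism group. -/
structure AutFacts (B : Set (Finset (Fin v))) (n c : ℕ) : Prop where
  transitive : MulAction.IsMultiplyPretransitive (Cfsg.setSystemAut B) (Fin v) n
  card_stabilizer : ∀ x : Fin n ↪ Fin v,
    Nat.card (MulAction.stabilizer (Cfsg.setSystemAut B) x) = c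

/-- Transitivity on ordered tuples from transversals along the first points. -/
theorem transitive_of_levels {n : ℕ} {model : List ℕ} {trans : List (List ℕ)} (hn : n ≤ v)
    (htrans : ∀ π ∈ trans, isAutList v model π = true)
    (hlevels : ∀ i < n, ∀ p < v, p < i ∨
      ∃ π ∈ trans, π.getD i 0 = p ∧ ∀ j < i, π.getD j 0 = j) :
    MulAction.IsMultiplyPretransitive (Cfsg.setSystemAut (decSet v model)) (Fin v) n := by
  classical
  set G := Cfsg.setSystemAut (decSet v model) with hG
  let x₀ : Fin n ↪ Fin v := Fin.castLEEmb hn
  have hto : ∀ x : Fin n ↪ Fin v, ∀ i, i ≤ n →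
      ∃ g : G, ∀ j : Fin n, (j : ℕ) < i → g • x j = x₀ j := by
    intro x i
    induction i with
    | zero => exact fun _ => ⟨1, fun j hj => absurd hj (Nat.not_lt_zero _)⟩
    | succ i ih =>
      intro hi
      obtain ⟨g, hg⟩ := ih (by omega)
      set p : Fin v := g • x ⟨i, hi⟩ with hp
      have hpi : i ≤ (p : ℕ) := by
        by_contra hlt'
        have h1 := hg ⟨p, by omega⟩ (show (p : ℕ) < i by omega)
        have : x ⟨p, by omega⟩ = x ⟨i, hi⟩ :=
          MulAction.injective g (h1.trans (Fin.ext rfl : _ = p))
        have := congrArg Fin.val (x.injective this)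
        simp only at this
        omega
      obtain ⟨π, hπ, hπi, hπfix⟩ := (hlevels i (by omega) p p.2).resolve_left (by omega)
      obtain ⟨σ, hσ, hσv⟩ := exists_aut_of_isAutList (htrans π hπ)
      refine ⟨(⟨σ, hσ⟩ : G)⁻¹ * g, fun j hj => ?_⟩
      rw [mul_smul, inv_smul_eq_iff]
      rcases Nat.lt_succ_iff_lt_or_eq.mp hj with hj' | hj'
      · rw [hg j hj']
        refine Fin.ext (Eq.symm ?_)
        show (σ (Fin.castLE hn j) : ℕ) = _
        rw [hσv]
        exact hπfix j hj'
      · obtain rfl : j = ⟨i, hi⟩ := Fin.ext hj'
        refine Fin.ext (Eq.symm ?_)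
        show (σ (Fin.castLE hn ⟨i, hi⟩) : ℕ) = _
        rw [hσv]
        exact hπi
  have ht : MulAction.IsMultiplyPretransitive G (Fin v) n := by
    constructor
    intro x y
    obtain ⟨g, hg⟩ := hto x n le_rfl
    obtain ⟨g', hg'⟩ := hto y n le_rfl
    refine ⟨g'⁻¹ * g, ?_⟩
    ext j
    rw [Function.Embedding.smul_apply, mul_smul, hg j j.2, ← hg' j j.2, inv_smul_smul]
  exact ht

theorem autFacts_of_checkAut {t n c : ℕ} {model : List ℕ} {trans : List (List ℕ)}
    (hn : n ≤ v) (hlt : ∀ x ∈ model, x < 2 ^ v) (h : checkAut v t n model trans c = true) :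
    AutFacts (decSet v model) n c := by
  classical
  simp only [checkAut, Bool.and_eq_true, List.all_eq_true, Bool.or_eq_true, decide_eq_true_eq,
    List.any_eq_true, beq_iff_eq, List.mem_range] at h
  obtain ⟨⟨⟨⟨htrans, hlevels⟩, hL⟩, hnodup⟩, hlen⟩ := h
  set G := Cfsg.setSystemAut (decSet v model) with hG
  let x₀ : Fin n ↪ Fin v := Fin.castLEEmb hn
  have ht : MulAction.IsMultiplyPretransitive G (Fin v) n :=
    transitive_of_levels hn htrans hlevels
  refine ⟨ht, fun x => ?_⟩
  obtain ⟨g₀, hg₀⟩ := MulAction.exists_smul_eq G x₀ x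
  rw [← hg₀, ← Nat.card_congr (MulAction.stabilizerEquivStabilizer (hg := rfl)
    (a := x₀) (b := g₀ • x₀) (g := g₀)).toEquiv]
  set L := autList v t model (v - n) (List.range n) with hLdef
  rw [← hlen, ← List.toFinset_card_of_nodup hnodup, ← Nat.card_eq_finsetCard]
  refine Nat.card_congr (Equiv.ofBijective
    (fun g => ⟨List.ofFn (fun i => ((((g : G) : Equiv.Perm (Fin v))) i : ℕ)), ?_⟩) ⟨?_, ?_⟩)
  · rw [List.mem_toFinset]
    refine mem_autList hlt (g : G).2 _ _ (by simp; omega) fun j hj hjn => ?_
    rw [List.length_range] at hjn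
    rw [List.getD_eq_getElem _ _ (by simpa using hjn), List.getElem_range]
    have := DFunLike.congr_fun (MulAction.mem_stabilizer_iff.mp g.2) ⟨j, hjn⟩
    exact (congrArg Fin.val this).symm
  · intro g g' e
    have := List.ofFn_injective (congrArg Subtype.val e)
    apply Subtype.ext
    apply Subtype.ext
    exact Equiv.ext fun i => Fin.ext (congrFun this i)
  · rintro ⟨π, hπ⟩
    rw [List.mem_toFinset] at hπ
    obtain ⟨h1, h2⟩ := hL π hπ
    obtain ⟨σ, hσ, hσv⟩ := exists_aut_of_isAutList h1
    refine ⟨⟨⟨σ, hσ⟩, ?_⟩, ?_⟩
    · rw [MulAction.mem_stabilizer_iff]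
      ext j
      show (σ (Fin.castLE hn j) : ℕ) = j
      rw [hσv]
      exact h2 j j.2
    · apply Subtype.ext
      simp only [isAutList, Bool.and_eq_true, beq_iff_eq] at h1
      refine List.ext_getElem (by simp [h1.1.1]) fun j hj1 hj2 => ?_
      simp only [List.getElem_ofFn]
      rw [hσv]
      exact List.getD_eq_getElem _ _ hj2

/-- Automorphisms fixing the first `i` points. -/
def fixFirst (B : Set (Finset (Fin v))) (i : ℕ) : Subgroup (Cfsg.setSystemAut B) where
  carrier := {g | ∀ j : Fin v, (j : ℕ) < i → g • j = j}
  one_mem' := fun j _ => one_smul _ j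
  mul_mem' := fun {a b} ha hb j hj => by rw [mul_smul, hb j hj, ha j hj]
  inv_mem' := fun {a} ha j hj => by rw [inv_smul_eq_iff]; exact (ha j hj).symm

theorem mem_fixFirst {B : Set (Finset (Fin v))} {i : ℕ} {g : Cfsg.setSystemAut B} :
    g ∈ fixFirst B i ↔ ∀ j : Fin v, (j : ℕ) < i → g • j = j := Iff.rfl

/-- The certificate for one level of the stabiliser chain. -/
def checkLevel (v t : ℕ) (model : List ℕ) (trans : List (List ℕ)) (i : ℕ) (orb : List ℕ) : Bool :=
  decide (i < v) && decide orb.Nodup &&
    orb.all (fun p => decide (p < v) && trans.any fun π =>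
      π.getD i 0 == p && (List.range i).all fun j => π.getD j 0 == j) &&
    (List.range v).all fun p => decide (p < i) || orb.contains p ||
      (autList v t model (v - i - 1) (List.range i ++ [p])).isEmpty

/-- The certificate for the bottom of the chain. -/
def checkBottom (v t : ℕ) (model : List ℕ) (i c : ℕ) : Bool :=
  let L := autList v t model (v - i) (List.range i)
  decide (i ≤ v) && L.all (fun π => isAutList v model π &&
    (List.range i).all fun j => π.getD j 0 == j) && decide L.Nodup && L.length == c

theorem card_fixFirst_bottom {t i c : ℕ} {model : List ℕ} (hlt : ∀ x ∈ model, x < 2 ^ v)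
    (h : checkBottom v t model i c = true) :
    Nat.card (fixFirst (decSet v model) i) = c := by
  classical
  simp only [checkBottom, Bool.and_eq_true, List.all_eq_true, decide_eq_true_eq, beq_iff_eq,
    List.mem_range] at h
  obtain ⟨⟨⟨hi, hL⟩, hnodup⟩, hlen⟩ := h
  rw [← hlen, ← List.toFinset_card_of_nodup hnodup, ← Nat.card_eq_finsetCard]
  refine Nat.card_congr (Equiv.ofBijective
    (fun g => ⟨List.ofFn (fun j => ((((g : Cfsg.setSystemAut (decSet v model)) :
      Equiv.Perm (Fin v))) j : ℕ)), ?_⟩) ⟨?_, ?_⟩)
  · rw [List.mem_toFinset]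
    refine mem_autList hlt (g : Cfsg.setSystemAut (decSet v model)).2 _ _ (by simp; omega)
      fun j hj hjn => ?_
    rw [List.length_range] at hjn
    rw [List.getD_eq_getElem _ _ (by simpa using hjn), List.getElem_range]
    exact (congrArg Fin.val (g.2 ⟨j, hj⟩ hjn)).symm
  · intro g g' e
    have := List.ofFn_injective (congrArg Subtype.val e)
    exact Subtype.ext (Subtype.ext (Equiv.ext fun j => Fin.ext (congrFun this j)))
  · rintro ⟨π, hπ⟩
    rw [List.mem_toFinset] at hπ
    obtain ⟨h1, h2⟩ := hL π hπ
    obtain ⟨σ, hσ, hσv⟩ := exists_aut_of_isAutList h1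
    refine ⟨⟨⟨σ, hσ⟩, fun j hj => Fin.ext ?_⟩, ?_⟩
    · show (σ j : ℕ) = j
      rw [hσv]
      exact h2 j hj
    · apply Subtype.ext
      simp only [isAutList, Bool.and_eq_true, beq_iff_eq] at h1
      refine List.ext_getElem (by simp [h1.1.1]) fun j hj1 hj2 => ?_
      simp only [List.getElem_ofFn]
      rw [hσv]
      exact List.getD_eq_getElem _ _ hj2

theorem card_fixFirst_succ {t i : ℕ} {model : List ℕ} {trans : List (List ℕ)} {orb : List ℕ}
    (hlt : ∀ x ∈ model, x < 2 ^ v) (htrans : trans.all (isAutList v model) = true)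
    (h : checkLevel v t model trans i orb = true) :
    Nat.card (fixFirst (decSet v model) i)
      = orb.length * Nat.card (fixFirst (decSet v model) (i + 1)) := by
  classical
  simp only [checkLevel, Bool.and_eq_true, List.all_eq_true, Bool.or_eq_true, decide_eq_true_eq,
    List.any_eq_true, beq_iff_eq, List.mem_range, List.contains_iff_mem, List.isEmpty_iff] at h
  obtain ⟨⟨⟨hi, hnodup⟩, horb⟩, hout⟩ := h
  rw [List.all_eq_true] at htrans
  set K := fixFirst (decSet v model) i with hK
  set a : Fin v := ⟨i, hi⟩ with ha
  have horbit : MulAction.orbit K a = {p : Fin v | (p : ℕ) ∈ orb} := by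
    ext p
    constructor
    · rintro ⟨g, rfl⟩
      set p := g • a with hp
      have hpi : i ≤ (p : ℕ) := by
        by_contra hlt'
        have h1 : (g : Cfsg.setSystemAut (decSet v model)) • p = p := g.2 p (by omega)
        have h2 : p = a := MulAction.injective (g : Cfsg.setSystemAut (decSet v model)) h1
        rw [h2, ha] at hlt'
        exact hlt' le_rfl
      rcases hout p p.2 with (h | h) | h
      · omega
      · exact h
      · exfalso
        have hmem := mem_autList (t := t) hlt (g : Cfsg.setSystemAut (decSet v model)).2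
          (v - i - 1) (List.range i ++ [(p : ℕ)]) (by simp; omega) (fun j hj hjl => by
            rw [List.length_append, List.length_range, List.length_singleton] at hjl
            rcases lt_or_eq_of_le (Nat.le_of_lt_succ hjl) with hji | rfl
            · rw [List.getD_append _ _ _ _ (by simpa using hji),
                List.getD_eq_getElem _ _ (by simpa using hji), List.getElem_range]
              exact (congrArg Fin.val (g.2 ⟨j, hj⟩ hji)).symm
            · simp [hp, ha]
              rfl)
        rw [h] at hmem
        exact List.not_mem_nil hmem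
    · intro hp
      obtain ⟨-, π, hπ, hπi, hπfix⟩ := horb p hp
      obtain ⟨σ, hσ, hσv⟩ := exists_aut_of_isAutList (htrans π hπ)
      refine ⟨⟨⟨σ, hσ⟩, fun j hj => Fin.ext ?_⟩, Fin.ext ?_⟩
      · show (σ j : ℕ) = j
        rw [hσv]; exact hπfix j hj
      · show (σ a : ℕ) = p
        rw [hσv]; exact hπi
  have hcard : Nat.card (MulAction.orbit K a) = orb.length := by
    rw [horbit, ← List.toFinset_card_of_nodup hnodup, ← Nat.card_eq_finsetCard]
    refine Nat.card_congr ⟨fun p => ⟨((p : Fin v) : ℕ), List.mem_toFinset.mpr p.2⟩,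
      fun p => ⟨⟨(p : ℕ), (horb p (List.mem_toFinset.mp p.2)).1⟩, List.mem_toFinset.mp p.2⟩,
      fun p => rfl, fun p => rfl⟩
  have e : MulAction.stabilizer K a ≃ fixFirst (decSet v model) (i + 1) :=
    { toFun := fun g => ⟨(g : K), fun j hj => by
        rcases lt_or_eq_of_le (Nat.le_of_lt_succ hj) with hji | hji
        · exact (g : K).2 j hji
        · obtain rfl : j = a := Fin.ext hji
          exact g.2⟩
      invFun := fun g => ⟨⟨g, fun j hj => g.2 j (by omega)⟩, g.2 a (by simp [ha])⟩
      left_inv := fun g => rfl
      right_inv := fun g => rfl }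
  rw [← Subgroup.index_mul_card (MulAction.stabilizer K a), MulAction.index_stabilizer,
    ← Nat.card_coe_set_eq, hcard, Nat.card_congr e]

/-- An isomorphism of set systems carries automorphisms to automorphisms. -/
theorem exists_mulEquiv_setSystemAut {α β : Type*} [Fintype α] [DecidableEq α] [Fintype β]
    [DecidableEq β] {B : Set (Finset α)} {B' : Set (Finset β)} (e : α ≃ β)
    (he : (fun b => b.image e) '' B = B') :
    ∃ f : Cfsg.setSystemAut B ≃* Cfsg.setSystemAut B', ∀ g a, f g • e a = e (g • a) := by
  have hmem : ∀ σ : Equiv.Perm α, σ ∈ Cfsg.setSystemAut B ↔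
      e.permCongr σ ∈ Cfsg.setSystemAut B' := by
    intro σ
    rw [mem_setSystemAut, mem_setSystemAut, ← he, Set.image_image]
    have h1 : ∀ b : Finset α, (b.image e).image (e.permCongr σ) = (b.image σ).image e := fun b => by
      rw [image_image, image_image]; exact image_congr fun a _ => by simp
    simp only [h1]
    rw [← Set.image_image (fun b : Finset α => b.image e)]
    constructor
    · intro h; rw [h]
    · intro h
      exact (Set.image_injective.mpr (Finset.image_injective e.injective)) h
  refine ⟨{ toFun := fun g => ⟨e.permCongr g, (hmem g).mp g.2⟩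
            invFun := fun g => ⟨e.symm.permCongr g, (hmem _).mpr ?_⟩
            left_inv := fun g => Subtype.ext (Equiv.ext fun a => by simp)
            right_inv := fun g => Subtype.ext (Equiv.ext fun a => by simp)
            map_mul' := fun g h => Subtype.ext (Equiv.ext fun a => by simp) }, fun g a => ?_⟩
  · have : e.permCongr (e.symm.permCongr (g : Equiv.Perm β)) = (g : Equiv.Perm β) :=
      Equiv.ext fun a => by simp
    rw [this]; exact g.2
  · show e.permCongr (g : Equiv.Perm α) (e a) = e ((g : Equiv.Perm α) a)
    simp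

/-- Multiple transitivity transfers along an equivariant isomorphism. -/
theorem isMultiplyPretransitive_congr {G H α β : Type*} [Group G] [Group H] [MulAction G α]
    [MulAction H β] (f : G ≃* H) (e : α ≃ β) (he : ∀ g a, f g • e a = e (g • a)) {n : ℕ}
    [MulAction.IsMultiplyPretransitive H β n] : MulAction.IsMultiplyPretransitive G α n := by
  constructor
  intro x y
  obtain ⟨h, hh⟩ := MulAction.exists_smul_eq H (x.trans e.toEmbedding) (y.trans e.toEmbedding)
  refine ⟨f.symm h, ?_⟩
  ext j
  apply e.injective
  rw [Function.Embedding.smul_apply, ← he, MulEquiv.apply_symm_apply]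
  exact DFunLike.congr_fun hh j

/-- Point stabilisers of tuples correspond along an equivariant isomorphism. -/
theorem card_stabilizer_congr {G H α β : Type*} [Group G] [Group H] [MulAction G α]
    [MulAction H β] (f : G ≃* H) (e : α ≃ β) (he : ∀ g a, f g • e a = e (g • a)) {n : ℕ}
    (x : Fin n ↪ α) :
    Nat.card (MulAction.stabilizer G x) =
      Nat.card (MulAction.stabilizer H (x.trans e.toEmbedding)) := by
  refine Nat.card_congr (f.toEquiv.subtypeEquiv fun g => ?_)
  rw [MulAction.mem_stabilizer_iff, MulAction.mem_stabilizer_iff, DFunLike.ext_iff, DFunLike.ext_iff]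
  refine forall_congr' fun j => ?_
  rw [Function.Embedding.smul_apply, Function.Embedding.smul_apply]
  show g • x j = x j ↔ f g • e (x j) = e (x j)
  rw [he]
  exact e.injective.eq_iff.symm

end Cfsg.Agent.Steiner
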