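import Cfsg.Agent.Lib.Steiner.Search
import Cfsg.Agent.Lib.Steiner.Inter
import Cfsg.Agent.Lib.Steiner.Models21

set_option autoImplicit false
set_option maxRecDepth 100000

/-! Uniqueness of `S(3, 6, 22)`. -/

namespace Cfsg.Agent.Steiner

/-- Blocks of the model of `S(3, 6, 22)`. -/
def model22 : List ℕ :=
  [860, 931, 3155, 3244, 13574, 14857, 20538, 20677, 26208, 27024,
    38544, 39264, 41013, 41162, 50441, 51718, 198149, 198922, 209056, 245840,
    329152, 330288, 352259, 364556, 393318, 393369, 414464, 437248, 589929, 589974,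
    613376, 631552, 656688, 658112, 679948, 692227, 787978, 788741, 798800, 835744,
    1118786, 1123352, 1130788, 1149057, 1185812, 1188161, 1197186, 1212968, 1315873, 1319556,
    1329224, 1343762, 1577352, 1583138, 1589777, 1606724, 2167057, 2172996, 2179720, 2196514,
    2233416, 2236946, 2246689, 2261380, 2365570, 2367784, 2376724, 2392641, 2626084, 2630785,
    2638146, 2656280, 3145743, 3145968, 3149568, 3207168, 4128768]

/-- Certificates for the leaves of the search for `S(3, 6, 22)`. -/
def perms22 : List (List ℕ) :=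
  [[0, 1, 2, 3, 4, 5, 6, 7, 8, 9, 10, 11, 12, 13, 14, 15, 16, 17, 18, 19, 20, 21],
    [0, 1, 2, 3, 4, 7, 5, 6, 16, 17, 18, 19, 8, 9, 10, 11, 12, 13, 14, 15, 20, 21],
    [0, 1, 2, 3, 4, 6, 7, 5, 12, 13, 14, 15, 16, 17, 18, 19, 8, 9, 10, 11, 20, 21]]

theorem model22_lt : ∀ x ∈ model22, x < 2 ^ 22 := by decide +kernel

/-- Sums of blocks giving a triangular system of parity equations. -/
def sels22 : List (List ℕ) :=
  [[2167057],
    [2172996],
    [2179720],
    [2196514],
    [2233416, 2179720],
    [2236946, 2196514],
    [2246689, 2167057, 2236946, 2196514],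
    [2365570, 2196514],
    [2626084, 2172996, 2365570, 2196514, 2233416, 2179720],
    [3145743, 2179720, 2246689, 2626084, 2365570]]

theorem check22 :
    checkUnique 22 3 false (model21.map (· ||| 2 ^ 21))
      (candsLin 22 6 3 false (model21.map (· ||| 2 ^ 21)) sels22) perms22 model22 59 = true := by
  decide +kernel

/-- Every `S(3, 6, 22)` on `Fin 22` is a relabelling of the model. -/
theorem normalForm22 (B : Set (Finset (Fin 22))) (hB : Cfsg.IsSteinerSystem 3 6 B) :
    ∃ e : Equiv.Perm (Fin 22), (fun s : Finset (Fin 22) => s.image e) '' B = decSet 22 model22 := by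
  obtain ⟨e, he⟩ := exists_perm_step normalForm21 model21_lt hB
  obtain ⟨f, hf⟩ := exists_perm_of_checkUnique (complete_candsLin s22_parity (by decide +kernel)) check22
    (steiner_image hB e) he (by decide +kernel)
    (by decide)
  refine ⟨e.trans f, ?_⟩
  rw [← hf, Set.image_image]
  simp only [Finset.image_image]
  rfl

end Cfsg.Agent.Steiner
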