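import Mathlib
import Cfsg.Prelude.Def_Sporadic_a
import Cfsg.Agent.Lib.Steiner.Models22

/-!
# A strongly regular graph (100, 22, 0, 6) is the point-block graph of an S(3,6,22)
-/

set_option autoImplicit false

namespace Cfsg.Agent.Steiner

open Finset

/-- An isomorphism of set systems gives one of point-block graphs. -/
theorem pointBlockGraph_iso {α β : Type*} [DecidableEq β] {B : Set (Finset α)}
    {B' : Set (Finset β)} (h : Cfsg.SetSystemIso B B') :
    Nonempty (Cfsg.pointBlockGraph B ≃g Cfsg.pointBlockGraph B') := by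
  obtain ⟨e, rfl⟩ := h
  let f : B ≃ ↥((fun b => b.image e) '' B) :=
    Equiv.Set.image _ B (Finset.image_injective e.injective)
  let F := (e.sumCongr f).optionCongr
  refine ⟨⟨F, ?_⟩⟩
  rintro (_ | a | b) (_ | a' | b') <;>
    simp [F, f, Cfsg.pointBlockGraph, SimpleGraph.fromRel_adj, Cfsg.pointBlockRel,
      Finset.disjoint_image e.injective, Finset.mem_image, Subtype.ext_iff,
      (Finset.image_injective e.injective).eq_iff]

variable {V : Type*} [Fintype V] [DecidableEq V] {G : SimpleGraph V} [DecidableRel G.Adj]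

theorem srg_inter_card {n k l μ : ℕ} (hG : G.IsSRGWith n k l μ) {x y : V} (hxy : x ≠ y)
    (h : ¬ G.Adj x y) : (G.neighborFinset x ∩ G.neighborFinset y).card = μ := by
  have h1 := hG.of_not_adj hxy h
  rw [← h1, ← Set.toFinset_card]
  congr 1
  ext z
  rw [Set.mem_toFinset]
  simp [SimpleGraph.commonNeighbors]

theorem srg_triangle_free {n k μ : ℕ} (hG : G.IsSRGWith n k 0 μ) {x y z : V} (hxy : G.Adj x y)
    (hxz : G.Adj x z) : ¬ G.Adj y z := by
  intro hyz
  have h1 := hG.of_adj x y hxy
  rw [Fintype.card_eq_zero_iff] at h1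
  exact h1.false ⟨z, hxz, hyz⟩

section

variable (hG : G.IsSRGWith 100 22 0 6) (v : V)
include hG

theorem srg100_card_far : (univ.filter fun m => m ≠ v ∧ ¬ G.Adj v m).card = 77 := by
  have h : (univ.filter fun m => m ≠ v ∧ ¬ G.Adj v m) = (insert v (G.neighborFinset v))ᶜ := by
    ext m; simp
  rw [h, card_compl, hG.card, card_insert_of_notMem (by simp),
    SimpleGraph.card_neighborFinset_eq_degree, hG.regular v]

theorem srg100_block_card {m : V} (hm : m ≠ v) (ha : ¬ G.Adj v m) :
    (G.neighborFinset v ∩ G.neighborFinset m).card = 6 := srg_inter_card hG hm.symm ha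

/-- Far vertices through a given neighbour of `v`. -/
theorem srg100_thru_one {x : V} (hx : G.Adj v x) :
    (univ.filter fun m => (m ≠ v ∧ ¬ G.Adj v m) ∧ G.Adj x m).card = 21 := by
  have h : (univ.filter fun m => (m ≠ v ∧ ¬ G.Adj v m) ∧ G.Adj x m) =
      (G.neighborFinset x).erase v := by
    ext m
    simp only [mem_filter, mem_univ, true_and, mem_erase, SimpleGraph.mem_neighborFinset]
    exact ⟨fun h => ⟨h.1.1, h.2⟩,
      fun h => ⟨⟨h.1, fun hv => srg_triangle_free hG hx hv h.2⟩, h.2⟩⟩
  rw [h, card_erase_of_mem (by simpa using hx.symm), SimpleGraph.card_neighborFinset_eq_degree,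
    hG.regular x]

/-- Far vertices through two given neighbours of `v`. -/
theorem srg100_thru_two {x y : V} (hx : G.Adj v x) (hy : G.Adj v y) (hxy : x ≠ y) :
    (univ.filter fun m => (m ≠ v ∧ ¬ G.Adj v m) ∧ G.Adj x m ∧ G.Adj y m).card = 5 := by
  have h : (univ.filter fun m => (m ≠ v ∧ ¬ G.Adj v m) ∧ G.Adj x m ∧ G.Adj y m) =
      (G.neighborFinset x ∩ G.neighborFinset y).erase v := by
    ext m
    simp only [mem_filter, mem_univ, true_and, mem_erase, mem_inter,
      SimpleGraph.mem_neighborFinset]
    exact ⟨fun h => ⟨h.1.1, h.2⟩,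
      fun h => ⟨⟨h.1, fun hv => srg_triangle_free hG hx hv h.2.1⟩, h.2⟩⟩
  rw [h, card_erase_of_mem (by simp [hx.symm, hy.symm]),
    srg_inter_card hG hxy (srg_triangle_free hG hx hy)]

/-- Two blocks meet in 0 points when adjacent and in 2 points otherwise. -/
theorem srg100_meet {m m' : V} (hm : m ≠ v) (ha : ¬ G.Adj v m) (hm' : m' ≠ v)
    (ha' : ¬ G.Adj v m') (hne : m' ≠ m) :
    (G.neighborFinset v ∩ G.neighborFinset m ∩ G.neighborFinset m').card =
      if G.Adj m m' then 0 else 2 := by
  set B := G.neighborFinset v ∩ G.neighborFinset m with hB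
  set S := (univ.filter fun w => w ≠ v ∧ ¬ G.Adj v w).erase m with hS
  have hB6 : B.card = 6 := srg100_block_card hG v hm ha
  have hzero : ∀ w, G.Adj m w → (B ∩ G.neighborFinset w).card = 0 := by
    intro w hw
    rw [card_eq_zero, eq_empty_iff_forall_notMem]
    intro x hx
    simp only [hB, mem_inter, SimpleGraph.mem_neighborFinset] at hx
    exact srg_triangle_free hG hw hx.1.2 hx.2
  have h1 : ∑ w ∈ S, (B ∩ G.neighborFinset w).card = 120 := by
    simp only [← filter_mem_eq_inter, card_filter]
    rw [sum_comm, sum_const_nat (m := 20) (fun x hx => ?_), hB6]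
    simp only [hB, mem_inter, SimpleGraph.mem_neighborFinset] at hx
    rw [← card_filter, hS, filter_erase, filter_filter]
    rw [show (univ.filter fun w => (w ≠ v ∧ ¬ G.Adj v w) ∧ x ∈ G.neighborFinset w) =
      univ.filter fun w => (w ≠ v ∧ ¬ G.Adj v w) ∧ G.Adj x w by simp [SimpleGraph.adj_comm]]
    rw [card_erase_of_mem (by simp [hm, ha, hx.2.symm]), srg100_thru_one hG v hx.1]
  have h2 : ∑ w ∈ S, (B ∩ G.neighborFinset w).offDiag.card = 120 := by
    have e : ∀ w, (B ∩ G.neighborFinset w).offDiag =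
        B.offDiag.filter fun p => p.1 ∈ G.neighborFinset w ∧ p.2 ∈ G.neighborFinset w := by
      intro w; ext p; simp only [mem_offDiag, mem_inter, mem_filter]; tauto
    simp only [e, card_filter]
    rw [sum_comm, sum_const_nat (m := 4) (fun p hp => ?_), offDiag_card, hB6]
    simp only [hB, mem_offDiag, mem_inter, SimpleGraph.mem_neighborFinset] at hp
    rw [← card_filter, hS, filter_erase, filter_filter]
    rw [show (univ.filter fun w => (w ≠ v ∧ ¬ G.Adj v w) ∧
        (p.1 ∈ G.neighborFinset w ∧ p.2 ∈ G.neighborFinset w)) =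
      univ.filter fun w => (w ≠ v ∧ ¬ G.Adj v w) ∧ G.Adj p.1 w ∧ G.Adj p.2 w by
        simp [SimpleGraph.adj_comm]]
    rw [card_erase_of_mem (by simp [hm, ha, hp.1.2.symm, hp.2.1.2.symm]),
      srg100_thru_two hG v hp.1.1 hp.2.1.1 hp.2.2]
  have hScard : S.card = 76 := by
    rw [hS, card_erase_of_mem (by simp [hm, ha]), srg100_card_far hG v]
  have hadj : (S.filter fun w => G.Adj m w).card = 16 := by
    have e : (S.filter fun w => G.Adj m w) = G.neighborFinset m \ G.neighborFinset v := by
      ext w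
      simp only [hS, mem_filter, mem_erase, mem_univ, true_and, mem_sdiff,
        SimpleGraph.mem_neighborFinset]
      refine ⟨fun h => ⟨h.2, h.1.2.2⟩, fun h => ⟨⟨h.1.ne', ?_, h.2⟩, h.1⟩⟩
      rintro rfl
      exact ha h.1.symm
    have := card_sdiff_add_card_inter (G.neighborFinset m) (G.neighborFinset v)
    rw [inter_comm, ← hB, hB6, SimpleGraph.card_neighborFinset_eq_degree, hG.regular m] at this
    rw [e]; omega
  have hkey : ∑ w ∈ S.filter (fun w => ¬ G.Adj m w),
      (((B ∩ G.neighborFinset w).card : ℤ) - 2) ^ 2 = 0 := by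
    have h3 : ∑ w ∈ S, (((B ∩ G.neighborFinset w).card : ℤ) - 2) ^ 2 = 64 := by
      have e : ∀ w, (((B ∩ G.neighborFinset w).card : ℤ) - 2) ^ 2 =
          ((B ∩ G.neighborFinset w).offDiag.card : ℤ) -
            3 * ((B ∩ G.neighborFinset w).card : ℤ) + 4 := by
        intro w
        rw [offDiag_card, Nat.cast_sub (Nat.le_mul_self _)]
        push_cast
        ring
      rw [sum_congr rfl fun w _ => e w, sum_add_distrib, sum_sub_distrib, ← mul_sum,
        ← Nat.cast_sum, ← Nat.cast_sum, h1, h2, sum_const, hScard]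
      norm_num
    rw [← sum_filter_add_sum_filter_not S (fun w => G.Adj m w),
      sum_congr rfl (s₂ := S.filter fun w => G.Adj m w) (g := fun _ => (4 : ℤ))
        (fun w hw => by rw [hzero w (mem_filter.mp hw).2]; norm_num),
      sum_const, hadj] at h3
    norm_num at h3 ⊢
    linarith
  split_ifs with h
  · exact hzero m' h
  · have := (sum_eq_zero_iff_of_nonneg fun w _ => sq_nonneg _).mp hkey m'
      (by simp [hS, hne, hm', ha', h])
    have h4 : ((B ∩ G.neighborFinset m').card : ℤ) - 2 = 0 := sq_eq_zero_iff.mp this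
    omega

end

/-- The graph is a point-block graph. -/
theorem srg100_exists (hG : G.IsSRGWith 100 22 0 6) :
    ∃ (v : V) (B : Set (Finset {x // G.Adj v x})), Fintype.card {x // G.Adj v x} = 22 ∧
      Cfsg.IsSteinerSystem 3 6 B ∧ Nonempty (Cfsg.pointBlockGraph B ≃g G) := by
  have : Nonempty V := Fintype.card_pos_iff.mp (by rw [hG.card]; norm_num)
  obtain ⟨v⟩ := this
  let blk : {m // m ≠ v ∧ ¬ G.Adj v m} → Finset {x // G.Adj v x} :=
    fun m => univ.filter fun x => G.Adj m.1 x.1
  have hmem : ∀ m x, x ∈ blk m ↔ G.Adj m.1 x.1 := fun m x => by simp [blk]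
  have hmap : ∀ m, (blk m).map (Function.Embedding.subtype _) =
      G.neighborFinset v ∩ G.neighborFinset m.1 := by
    intro m; ext z; simp [blk, and_comm]
  have hcard : ∀ m, (blk m).card = 6 := fun m => by
    rw [← card_map (Function.Embedding.subtype _), hmap]
    exact srg100_block_card hG v m.2.1 m.2.2
  have hmeet : ∀ m m', m ≠ m' → (blk m ∩ blk m').card = if G.Adj m.1 m'.1 then 0 else 2 := by
    intro m m' h
    rw [← card_map (Function.Embedding.subtype _), map_inter, hmap, hmap,
      ← srg100_meet hG v m.2.1 m.2.2 m'.2.1 m'.2.2 (fun e => h (Subtype.ext e.symm))]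
    congr 1
    ext z
    simp only [mem_inter]
    tauto
  have hinj : Function.Injective blk := by
    intro m m' h
    by_contra hne
    have h1 := hmeet m m' hne
    rw [h, inter_self, hcard] at h1
    split_ifs at h1 <;> omega
  have h22 : Fintype.card {x // G.Adj v x} = 22 := by
    rw [Fintype.card_subtype, ← hG.regular v, ← SimpleGraph.card_neighborFinset_eq_degree]
    congr 1; ext z; simp
  have hM : Fintype.card {m // m ≠ v ∧ ¬ G.Adj v m} = 77 := by
    rw [Fintype.card_subtype]; exact srg100_card_far hG v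
  refine ⟨v, Set.range blk, h22, ⟨?_, ?_⟩, ?_⟩
  · rintro b ⟨m, rfl⟩; exact hcard m
  · intro s hs
    have hdisj : ((univ : Finset {m // m ≠ v ∧ ¬ G.Adj v m}) : Set _).PairwiseDisjoint
        fun m => (blk m).powersetCard 3 := by
      intro m _ m' _ h
      refine disjoint_left.mpr fun t ht ht' => ?_
      rw [mem_powersetCard] at ht ht'
      have h1 := card_le_card (subset_inter ht.1 ht'.1)
      rw [hmeet m m' h, ht.2] at h1
      split_ifs at h1 <;> omega
    have hall : univ.biUnion (fun m => (blk m).powersetCard 3) =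
        (univ : Finset {x // G.Adj v x}).powersetCard 3 := by
      refine eq_of_subset_of_card_le (fun t ht => ?_) ?_
      · obtain ⟨m, -, ht⟩ := mem_biUnion.mp ht
        exact mem_powersetCard.mpr ⟨subset_univ _, (mem_powersetCard.mp ht).2⟩
      · rw [card_biUnion hdisj, card_powersetCard, card_univ, h22,
          sum_congr rfl (fun m _ => show ((blk m).powersetCard 3).card = 20 by
            rw [card_powersetCard, hcard]; rfl), sum_const, card_univ, hM]
        decide
    have hs' : s ∈ univ.biUnion (fun m => (blk m).powersetCard 3) := by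
      rw [hall]; exact mem_powersetCard.mpr ⟨subset_univ _, hs⟩
    obtain ⟨m, -, hm⟩ := mem_biUnion.mp hs'
    refine ⟨blk m, ⟨⟨m, rfl⟩, (mem_powersetCard.mp hm).1⟩, ?_⟩
    rintro b ⟨⟨m', rfl⟩, hb⟩
    by_contra hne
    exact disjoint_left.mp (hdisj (mem_univ m') (mem_univ m) (fun e => hne (e ▸ rfl)))
      (mem_powersetCard.mpr ⟨hb, hs⟩) hm
  · let E := Equiv.ofInjective blk hinj
    let F : Option ({x // G.Adj v x} ⊕ ↥(Set.range blk)) → V :=
      fun o => o.elim v (Sum.elim Subtype.val (fun b => (E.symm b).1))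
    have hF : Function.Injective F := by
      rintro (_ | a | b) (_ | a' | b') h <;> simp only [F, Option.elim_none, Option.elim_some,
        Sum.elim_inl, Sum.elim_inr] at h
      · rfl
      · exact (a'.2.ne h).elim
      · exact ((E.symm b').2.1 h.symm).elim
      · exact (a.2.ne h.symm).elim
      · rw [Subtype.ext h]
      · exact ((E.symm b').2.2 (h ▸ a.2)).elim
      · exact ((E.symm b).2.1 h).elim
      · exact ((E.symm b).2.2 (h.symm ▸ a'.2)).elim
      · rw [E.symm.injective (Subtype.ext h)]
    have hbij : Function.Bijective F := by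
      rw [Fintype.bijective_iff_injective_and_card]
      refine ⟨hF, ?_⟩
      rw [Fintype.card_option, Fintype.card_sum, h22, hG.card, ← Fintype.card_congr E, hM]
    refine ⟨⟨Equiv.ofBijective F hbij, ?_⟩⟩
    rintro (_ | a | b) (_ | a' | b') <;>
      simp only [Equiv.ofBijective_apply, F, Option.elim_none, Option.elim_some, Sum.elim_inl,
        Sum.elim_inr, Cfsg.pointBlockGraph, SimpleGraph.fromRel_adj, Cfsg.pointBlockRel, ne_eq]
    · simp
    · simp [a'.2]
    · simp [(E.symm b').2.2]
    · simp [a.2.symm]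
    · simp [srg_triangle_free hG a.2 a'.2]
    · obtain ⟨m, rfl⟩ := E.surjective b'
      simp [E, hmem, SimpleGraph.adj_comm]
    · simpa using fun h : G.Adj (E.symm b).1 v => (E.symm b).2.2 h.symm
    · obtain ⟨m, rfl⟩ := E.surjective b
      simp [E, hmem]
    · obtain ⟨m, rfl⟩ := E.surjective b
      obtain ⟨m', rfl⟩ := E.surjective b'
      rw [E.symm_apply_apply, E.symm_apply_apply]
      rcases eq_or_ne m m' with rfl | h
      · simp
      · have h1 : ∀ x y, x ≠ y → (Disjoint (blk x) (blk y) ↔ G.Adj x.1 y.1) := fun x y hxy => by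
          rw [disjoint_iff_inter_eq_empty, ← card_eq_zero, hmeet x y hxy]
          split_ifs with h <;> simp [h]
        simp [E, h, h1 m m' h, h1 m' m h.symm, G.adj_comm m'.1 m.1, Subtype.ext_iff, hinj.ne h]

/-- Uniqueness. -/
theorem srg100_iso {W : Type*} [Fintype W] [DecidableEq W] {H : SimpleGraph W}
    [DecidableRel H.Adj] (hG : G.IsSRGWith 100 22 0 6) (hH : H.IsSRGWith 100 22 0 6) :
    Nonempty (G ≃g H) := by
  obtain ⟨v, B, hα, hB, ⟨f⟩⟩ := srg100_exists hG
  obtain ⟨w, B', hβ, hB', ⟨g⟩⟩ := srg100_exists hH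
  obtain ⟨i⟩ := pointBlockGraph_iso
    (setSystemIso_of_normalForm normalForm22 hα hβ hB hB')
  exact ⟨(f.symm.trans i).trans g⟩

end Cfsg.Agent.Steiner
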