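import Cfsg.Agent.Lib.Steiner.Search
import Cfsg.Agent.Lib.Steiner.Inter

set_option autoImplicit false
set_option maxRecDepth 100000

/-! Uniqueness of the small systems up to `S(5, 6, 12)`. -/

namespace Cfsg.Agent.Steiner

/-- Blocks of the model of `S(2, 3, 9)`. -/
def model9 : List ℕ :=
  [7, 25, 42, 76, 112, 146, 164, 193, 276, 289,
    322, 392]

/-- Certificates for the leaves of the search for `S(2, 3, 9)`. -/
def perms9 : List (List ℕ) :=
  [[0, 1, 2, 3, 4, 5, 6, 7, 8]]

theorem model9_lt : ∀ x ∈ model9, x < 2 ^ 9 := by decide +kernel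

theorem check9 :
    checkUnique 9 2 true []
      (cands0 9 3 2 []) perms9 model9 15 = true := by
  decide +kernel

/-- Every `S(2, 3, 9)` on `Fin 9` is a relabelling of the model. -/
theorem normalForm9 (B : Set (Finset (Fin 9))) (hB : Cfsg.IsSteinerSystem 2 3 B) :
    ∃ e : Equiv.Perm (Fin 9), (fun s : Finset (Fin 9) => s.image e) '' B = decSet 9 model9 := by
  exact exists_perm_of_checkUnique (complete_cands0 9 3 2 []) check9 hB (by simp) (by decide +kernel) (by decide)

/-- Blocks of the model of `S(3, 4, 10)`. -/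
def model10 : List ℕ :=
  [51, 60, 75, 86, 101, 142, 149, 169, 216, 226,
    269, 282, 294, 337, 360, 387, 432, 452, 519, 537,
    554, 588, 624, 658, 676, 705, 788, 801, 834, 904]

/-- Certificates for the leaves of the search for `S(3, 4, 10)`. -/
def perms10 : List (List ℕ) :=
  [[0, 1, 2, 3, 4, 5, 6, 7, 8, 9],
    [0, 1, 2, 4, 3, 7, 8, 5, 6, 9],
    [0, 1, 2, 5, 8, 3, 7, 6, 4, 9]]

theorem model10_lt : ∀ x ∈ model10, x < 2 ^ 10 := by decide +kernel

theorem check10 :
    checkUnique 10 3 false (model9.map (· ||| 2 ^ 9))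
      (cands0 10 4 3 (model9.map (· ||| 2 ^ 9))) perms10 model10 21 = true := by
  decide +kernel

/-- Every `S(3, 4, 10)` on `Fin 10` is a relabelling of the model. -/
theorem normalForm10 (B : Set (Finset (Fin 10))) (hB : Cfsg.IsSteinerSystem 3 4 B) :
    ∃ e : Equiv.Perm (Fin 10), (fun s : Finset (Fin 10) => s.image e) '' B = decSet 10 model10 := by
  obtain ⟨e, he⟩ := exists_perm_step normalForm9 model9_lt hB
  obtain ⟨f, hf⟩ := exists_perm_of_checkUnique (complete_cands0 10 4 3 (model9.map (· ||| 2 ^ 9))) check10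
    (steiner_image hB e) he (by decide +kernel)
    (by decide)
  refine ⟨e.trans f, ?_⟩
  rw [← hf, Set.image_image]
  simp only [Finset.image_image]
  rfl

/-- Blocks of the model of `S(4, 5, 11)`. -/
def model11 : List ℕ :=
  [31, 110, 121, 167, 186, 205, 211, 244, 299, 309,
    327, 348, 370, 406, 409, 428, 458, 481, 557, 566,
    597, 602, 611, 651, 668, 689, 710, 744, 782, 787,
    824, 841, 868, 901, 930, 976, 1075, 1084, 1099, 1110,
    1125, 1166, 1173, 1193, 1240, 1250, 1293, 1306, 1318, 1361,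
    1384, 1411, 1456, 1476, 1543, 1561, 1578, 1612, 1648, 1682,
    1700, 1729, 1812, 1825, 1858, 1928]

/-- Certificates for the leaves of the search for `S(4, 5, 11)`. -/
def perms11 : List (List ℕ) :=
  [[0, 1, 2, 3, 4, 5, 6, 7, 8, 9, 10],
    [0, 1, 2, 3, 10, 4, 8, 6, 9, 7, 5]]

theorem model11_lt : ∀ x ∈ model11, x < 2 ^ 11 := by decide +kernel

theorem check11 :
    checkUnique 11 4 false (model10.map (· ||| 2 ^ 10))
      (cands0 11 5 4 (model10.map (· ||| 2 ^ 10))) perms11 model11 39 = true := by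
  decide +kernel

/-- Every `S(4, 5, 11)` on `Fin 11` is a relabelling of the model. -/
theorem normalForm11 (B : Set (Finset (Fin 11))) (hB : Cfsg.IsSteinerSystem 4 5 B) :
    ∃ e : Equiv.Perm (Fin 11), (fun s : Finset (Fin 11) => s.image e) '' B = decSet 11 model11 := by
  obtain ⟨e, he⟩ := exists_perm_step normalForm10 model10_lt hB
  obtain ⟨f, hf⟩ := exists_perm_of_checkUnique (complete_cands0 11 5 4 (model10.map (· ||| 2 ^ 10))) check11
    (steiner_image hB e) he (by decide +kernel)
    (by decide)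
  refine ⟨e.trans f, ?_⟩
  rw [← hf, Set.image_image]
  simp only [Finset.image_image]
  rfl

/-- Blocks of the model of `S(5, 6, 12)`. -/
def model12 : List ℕ :=
  [119, 189, 222, 235, 318, 347, 365, 399, 435, 469,
    486, 504, 571, 591, 636, 663, 686, 729, 741, 754,
    797, 807, 854, 874, 881, 922, 937, 948, 963, 972,
    1071, 1117, 1146, 1179, 1206, 1223, 1260, 1265, 1303, 1337,
    1358, 1379, 1396, 1436, 1445, 1450, 1481, 1490, 1566, 1589,
    1619, 1638, 1641, 1677, 1699, 1720, 1738, 1748, 1803, 1836,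
    1842, 1861, 1880, 1926, 1937, 2016, 2079, 2158, 2169, 2215,
    2234, 2253, 2259, 2292, 2347, 2357, 2375, 2396, 2418, 2454,
    2457, 2476, 2506, 2529, 2605, 2614, 2645, 2650, 2659, 2699,
    2716, 2737, 2758, 2792, 2830, 2835, 2872, 2889, 2916, 2949,
    2978, 3024, 3123, 3132, 3147, 3158, 3173, 3214, 3221, 3241,
    3288, 3298, 3341, 3354, 3366, 3409, 3432, 3459, 3504, 3524,
    3591, 3609, 3626, 3660, 3696, 3730, 3748, 3777, 3860, 3873,
    3906, 3976]

/-- Certificates for the leaves of the search for `S(5, 6, 12)`. -/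
def perms12 : List (List ℕ) :=
  [[0, 1, 2, 3, 4, 5, 6, 7, 8, 9, 10, 11]]

theorem model12_lt : ∀ x ∈ model12, x < 2 ^ 12 := by decide +kernel

theorem check12 :
    checkUnique 12 5 false (model11.map (· ||| 2 ^ 11))
      (cands0 12 6 5 (model11.map (· ||| 2 ^ 11))) perms12 model12 69 = true := by
  decide +kernel

/-- Every `S(5, 6, 12)` on `Fin 12` is a relabelling of the model. -/
theorem normalForm12 (B : Set (Finset (Fin 12))) (hB : Cfsg.IsSteinerSystem 5 6 B) :
    ∃ e : Equiv.Perm (Fin 12), (fun s : Finset (Fin 12) => s.image e) '' B = decSet 12 model12 := by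
  obtain ⟨e, he⟩ := exists_perm_step normalForm11 model11_lt hB
  obtain ⟨f, hf⟩ := exists_perm_of_checkUnique (complete_cands0 12 6 5 (model11.map (· ||| 2 ^ 11))) check12
    (steiner_image hB e) he (by decide +kernel)
    (by decide)
  refine ⟨e.trans f, ?_⟩
  rw [← hf, Set.image_image]
  simp only [Finset.image_image]
  rfl

end Cfsg.Agent.Steiner
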