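import Cfsg.Agent.Lib.Steiner.AutSmall
import Cfsg.Agent.Lib.Steiner.Models12
import Cfsg.Agent.Lib.Steiner.M11.Local

/-!
# Uniqueness of the sharply 4-transitive group of degree 11
-/

set_option autoImplicit false

namespace Cfsg.Agent.Steiner

open MulAction

variable {G : Type*} [Group G] {α : Type*} [Fintype α] [DecidableEq α] [MulAction G α]

theorem four_vec_injective {a b c d : α} (hab : a ≠ b) (hac : a ≠ c) (had : a ≠ d) (hbc : b ≠ c)
    (hbd : b ≠ d) (hcd : c ≠ d) : Function.Injective ![a, b, c, d] := by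
  intro i j
  fin_cases i <;> fin_cases j <;> simp [hab, hac, had, hbc, hbd, hcd, Ne.symm hab, Ne.symm hac,
    Ne.symm had, Ne.symm hbc, Ne.symm hbd, Ne.symm hcd]

section

variable (hsharp : ∀ x : Fin 4 ↪ α, stabilizer G x = ⊥)

include hsharp in
theorem eq_one_of_four {g : G} {a b c d : α} (hab : a ≠ b) (hac : a ≠ c) (had : a ≠ d)
    (hbc : b ≠ c) (hbd : b ≠ d) (hcd : c ≠ d) (ha : g • a = a) (hb : g • b = b) (hc : g • c = c)
    (hd : g • d = d) : g = 1 := by
  have h : g ∈ stabilizer G (⟨_, four_vec_injective hab hac had hbc hbd hcd⟩ : Fin 4 ↪ α) := by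
    show g • _ = _
    refine DFunLike.ext _ _ fun i => ?_
    fin_cases i <;> simp [Function.Embedding.smul_apply, ha, hb, hc, hd]
  rwa [hsharp, Subgroup.mem_bot] at h

include hsharp in
theorem eq_of_four {g h : G} {a b c d : α} (hab : a ≠ b) (hac : a ≠ c) (had : a ≠ d)
    (hbc : b ≠ c) (hbd : b ≠ d) (hcd : c ≠ d) (ha : g • a = h • a) (hb : g • b = h • b)
    (hc : g • c = h • c) (hd : g • d = h • d) : g = h :=
  (inv_mul_eq_one.mp (eq_one_of_four (g := h⁻¹ * g) hsharp hab hac had hbc hbd hcd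
    (by rw [mul_smul, ha, inv_smul_smul]) (by rw [mul_smul, hb, inv_smul_smul])
    (by rw [mul_smul, hc, inv_smul_smul]) (by rw [mul_smul, hd, inv_smul_smul]) :
    h⁻¹ * g = 1)).symm

variable [IsMultiplyPretransitive G α 4]

theorem exists_map_four {a b c d a' b' c' d' : α} (hab : a ≠ b) (hac : a ≠ c) (had : a ≠ d)
    (hbc : b ≠ c) (hbd : b ≠ d) (hcd : c ≠ d) (hab' : a' ≠ b') (hac' : a' ≠ c') (had' : a' ≠ d')
    (hbc' : b' ≠ c') (hbd' : b' ≠ d') (hcd' : c' ≠ d') :
    ∃ g : G, g • a = a' ∧ g • b = b' ∧ g • c = c' ∧ g • d = d' := by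
  obtain ⟨g, hg⟩ := MulAction.exists_smul_eq G
    (⟨_, four_vec_injective hab hac had hbc hbd hcd⟩ : Fin 4 ↪ α)
    ⟨_, four_vec_injective hab' hac' had' hbc' hbd' hcd'⟩
  exact ⟨g, DFunLike.congr_fun hg 0, DFunLike.congr_fun hg 1, DFunLike.congr_fun hg 2,
    DFunLike.congr_fun hg 3⟩

include hsharp in
/-- A 3-cycle on `a, b, c` fixing `d` fixes exactly one further point. -/
theorem exists_fixed_pair (hα : Fintype.card α = 11) {g : G} {a b c d : α} (hab : a ≠ b)
    (hac : a ≠ c) (had : a ≠ d) (hbc : b ≠ c) (hbd : b ≠ d) (hcd : c ≠ d) (ha : g • a = b)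
    (hb : g • b = c) (hc : g • c = a) (hd : g • d = d) :
    ∃ e : α, e ≠ a ∧ e ≠ b ∧ e ≠ c ∧ e ≠ d ∧ g • e = e ∧
      ∀ x, g • x = x → x = d ∨ x = e := by
  classical
  have h3 : g ^ 3 = 1 := by
    refine eq_one_of_four hsharp hab hac had hbc hbd hcd ?_ ?_ ?_ ?_ <;>
      simp only [pow_succ, pow_zero, one_mul, mul_smul, ha, hb, hc, hd]
  set F := Finset.univ.filter fun x : α => g • x = x with hF
  have hmod : 11 % 3 = F.card % 3 := by
    have : Fact (Nat.Prime 3) := ⟨Nat.prime_three⟩
    have h := Equiv.Perm.card_compl_support_modEq (n := 1)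
      (σ := MulAction.toPermHom G α g) (p := 3) (by rw [pow_one, ← map_pow, h3, map_one])
    have hs : (MulAction.toPermHom G α g).supportᶜ = F := by ext x; simp [F]
    rw [hs, hα] at h
    exact h.symm
  have hlt : F.card < 4 := by
    by_contra hge
    obtain ⟨T, hTF, hT⟩ := Finset.exists_subset_card_eq (not_lt.mp hge)
    obtain ⟨x⟩ := Function.Embedding.nonempty_of_card_le (α := Fin 4) (β := T) (by simp [hT])
    have h : g ∈ stabilizer G (x.trans (Function.Embedding.subtype (· ∈ T))) := by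
      show g • _ = _
      exact DFunLike.ext _ _ fun i => (Finset.mem_filter.mp (hTF (x i).2)).2
    rw [hsharp, Subgroup.mem_bot] at h
    rw [h, one_smul] at ha
    exact hab ha
  have hdF : d ∈ F := Finset.mem_filter.mpr ⟨Finset.mem_univ _, hd⟩
  have h2 : F.card = 2 := by
    have := Finset.card_pos.mpr ⟨d, hdF⟩
    omega
  obtain ⟨x, y, hxy, hFxy⟩ := Finset.card_eq_two.mp h2
  obtain ⟨e, hde, hFe⟩ : ∃ e, d ≠ e ∧ F = {d, e} := by
    rw [hFxy] at hdF
    rcases Finset.mem_insert.mp hdF with rfl | h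
    · exact ⟨y, hxy, hFxy⟩
    · rw [Finset.mem_singleton] at h
      subst h
      exact ⟨x, hxy.symm, by rw [hFxy, Finset.pair_comm]⟩
  have hmem : ∀ z, g • z = z ↔ z = d ∨ z = e := fun z => by
    have : z ∈ F ↔ z ∈ ({d, e} : Finset α) := by rw [hFe]
    simpa [F] using this
  have hge : g • e = e := (hmem e).mpr (Or.inr rfl)
  refine ⟨e, fun h => hab ?_, fun h => hbc ?_, fun h => hac.symm ?_, hde.symm, hge,
    fun z hz => (hmem z).mp hz⟩
  · rw [h] at hge; exact (ha.symm.trans hge).symm
  · rw [h] at hge; exact (hb.symm.trans hge).symm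
  · rw [h] at hge; exact (hc.symm.trans hge).symm

include hsharp in
/-- An involution fixes an odd number of points, at most three. -/
theorem card_fixed_involution (hα : Fintype.card α = 11) {v : G} (hv : v ^ 2 = 1) (hv1 : v ≠ 1) :
    (Finset.univ.filter fun x : α => v • x = x).card = 1 ∨
      (Finset.univ.filter fun x : α => v • x = x).card = 3 := by
  classical
  set F := Finset.univ.filter fun x : α => v • x = x with hF
  have hmod : 11 % 2 = F.card % 2 := by
    have : Fact (Nat.Prime 2) := ⟨Nat.prime_two⟩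
    have h := Equiv.Perm.card_compl_support_modEq (n := 1)
      (σ := MulAction.toPermHom G α v) (p := 2) (by rw [pow_one, ← map_pow, hv, map_one])
    have hs : (MulAction.toPermHom G α v).supportᶜ = F := by ext x; simp [F]
    rw [hs, hα] at h
    exact h.symm
  have hlt : F.card < 4 := by
    by_contra hge
    obtain ⟨T, hTF, hT⟩ := Finset.exists_subset_card_eq (not_lt.mp hge)
    obtain ⟨x⟩ := Function.Embedding.nonempty_of_card_le (α := Fin 4) (β := T) (by simp [hT])
    have h : v ∈ stabilizer G (x.trans (Function.Embedding.subtype (· ∈ T))) := by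
      show v • _ = _
      exact DFunLike.ext _ _ fun i => (Finset.mem_filter.mp (hTF (x i).2)).2
    rw [hsharp, Subgroup.mem_bot] at h
    exact hv1 h
  omega

include hsharp in
/-- The setwise stabiliser of four points has a common fixed point outside them. -/
theorem exists_fifth [Fintype G] (hG : Cfsg.IsM11 G) (hα : Fintype.card α = 11) {a b c d : α}
    (hab : a ≠ b) (hac : a ≠ c) (had : a ≠ d) (hbc : b ≠ c) (hbd : b ≠ d) (hcd : c ≠ d) :
    ∃ e : α, e ∉ ({a, b, c, d} : Finset α) ∧
      ∀ h : G, ({a, b, c, d} : Finset α).image (h • ·) = {a, b, c, d} → h • e = e := by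
  classical
  set Q : Finset α := {a, b, c, d} with hQ
  obtain ⟨g, ga, gb, gc, gd⟩ := exists_map_four (G := G) hab hac had hbc hbd hcd
    hbc hab.symm hbd hac.symm hcd had
  obtain ⟨σ₁, a1, b1, c1, d1⟩ := exists_map_four (G := G) hab hac had hbc hbd hcd
    hab.symm hbd hbc had hac hcd.symm
  obtain ⟨σ₂, a2, b2, c2, d2⟩ := exists_map_four (G := G) hab hac had hbc hbd hcd
    hcd hac.symm hbc.symm had.symm hbd.symm hab
  have eq4 : ∀ {u v : G}, u • a = v • a → u • b = v • b → u • c = v • c → u • d = v • d → u = v :=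
    fun h1 h2 h3 h4 => eq_of_four hsharp hab hac had hbc hbd hcd h1 h2 h3 h4
  have hs1 : σ₁ ^ 2 = 1 := eq4 (by simp [sq, mul_smul, a1, b1]) (by simp [sq, mul_smul, a1, b1])
    (by simp [sq, mul_smul, c1, d1]) (by simp [sq, mul_smul, c1, d1])
  have hs2 : σ₂ ^ 2 = 1 := eq4 (by simp [sq, mul_smul, a2, c2]) (by simp [sq, mul_smul, b2, d2])
    (by simp [sq, mul_smul, a2, c2]) (by simp [sq, mul_smul, b2, d2])
  have hne1 : σ₁ ≠ 1 := fun h => hab (by rw [h, one_smul] at a1; exact a1)
  have hcomm : σ₂ * σ₁ = σ₁ * σ₂ := eq4 (by simp [mul_smul, a1, b1, c1, d1, a2, b2, c2, d2])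
    (by simp [mul_smul, a1, b1, c1, d1, a2, b2, c2, d2])
    (by simp [mul_smul, a1, b1, c1, d1, a2, b2, c2, d2])
    (by simp [mul_smul, a1, b1, c1, d1, a2, b2, c2, d2])
  have hg12 : g * σ₂ = σ₁ * g := eq4 (by simp [mul_smul, a1, b1, c1, d1, a2, ga, gb, gc])
    (by simp [mul_smul, a1, b1, c1, d1, b2, ga, gb, gc, gd])
    (by simp [mul_smul, a1, b1, c1, d1, c2, ga, gb, gc])
    (by simp [mul_smul, a1, b1, c1, d1, d2, ga, gb, gc, gd])
  have hg31 : g * σ₁ = σ₁ * σ₂ * g := eq4
    (by simp [mul_smul, a1, b1, c1, d1, a2, b2, c2, d2, ga, gb, gc, gd])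
    (by simp [mul_smul, a1, b1, c1, d1, a2, b2, c2, d2, ga, gb, gc, gd])
    (by simp [mul_smul, a1, b1, c1, d1, a2, b2, c2, d2, ga, gb, gc, gd])
    (by simp [mul_smul, a1, b1, c1, d1, a2, b2, c2, d2, ga, gb, gc, gd])
  set F := Finset.univ.filter fun x : α => σ₁ • x = x with hF
  set T := Finset.univ.filter fun x : α => σ₁ • x = x ∧ σ₂ • x = x with hT
  have hF13 := card_fixed_involution hsharp hα hs1 hne1
  rw [← hF] at hF13
  -- `σ₂` fixes an odd number of the fixed points of `σ₁`
  have hTodd : T.card % 2 = 1 := by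
    have : Fact (Nat.Prime 2) := ⟨Nat.prime_two⟩
    let f : {x // x ∈ F} → {x // x ∈ F} := fun x => ⟨σ₂ • x.1, by
      have hx := (Finset.mem_filter.mp x.2).2
      refine Finset.mem_filter.mpr ⟨Finset.mem_univ _, ?_⟩
      rw [← mul_smul, ← hcomm, mul_smul, hx]⟩
    have hf : Function.Involutive f := fun x => Subtype.ext (by
      show σ₂ • σ₂ • x.1 = x.1
      rw [← mul_smul, ← sq, hs2, one_smul])
    have h := Classification.card_modEq_fixed (p := 2) (σ := Function.Involutive.toPerm f hf) (by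
      ext x; exact congrArg Subtype.val (hf x))
    have e1 : Nat.card {x : {x // x ∈ F} // Function.Involutive.toPerm f hf x = x} = T.card := by
      rw [← Nat.card_eq_finsetCard]
      exact Nat.card_congr
        { toFun := fun x => ⟨x.1.1, Finset.mem_filter.mpr ⟨Finset.mem_univ _,
            (Finset.mem_filter.mp x.1.2).2, congrArg Subtype.val x.2⟩⟩
          invFun := fun x => ⟨⟨x.1, Finset.mem_filter.mpr ⟨Finset.mem_univ _,
            (Finset.mem_filter.mp x.2).2.1⟩⟩, Subtype.ext (Finset.mem_filter.mp x.2).2.2⟩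
          left_inv := fun x => rfl
          right_inv := fun x => rfl }
    rw [e1, Nat.card_eq_fintype_card, Fintype.card_coe] at h
    have h' : F.card % 2 = T.card % 2 := h
    omega
  have hTF : T ⊆ F := fun x hx =>
    Finset.mem_filter.mpr ⟨Finset.mem_univ _, (Finset.mem_filter.mp hx).2.1⟩
  have hTg : ∀ x ∈ T, g • x ∈ T := by
    intro x hx
    obtain ⟨-, x1, x2⟩ := Finset.mem_filter.mp hx
    have h1 : σ₁ • (g • x) = g • x := by rw [← mul_smul, ← hg12, mul_smul, x2]
    refine Finset.mem_filter.mpr ⟨Finset.mem_univ _, h1, ?_⟩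
    have h2 : (σ₁ * σ₂) • (g • x) = g • x := by rw [← mul_smul, ← hg31, mul_smul, x1]
    have hs : σ₁ * σ₁ = 1 := by rw [← sq, hs1]
    calc σ₂ • (g • x) = σ₁ • ((σ₁ * σ₂) • (g • x)) := by
          rw [← mul_smul σ₁, ← mul_assoc, hs, one_mul]
      _ = g • x := by rw [h2, h1]
  have hT1 : T.card = 1 := by
    by_contra hne
    have hle := Finset.card_le_card hTF
    have hT3 : T.card = 3 := by omega
    obtain ⟨x, y, z, hxy, hxz, hyz, hTe⟩ := Finset.card_eq_three.mp hT3
    have hFT : F = T := (Finset.eq_of_subset_of_card_le hTF (by omega)).symm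
    let W : Subgroup G :=
      { carrier := {k | ∀ w, k • w ∈ T ↔ w ∈ T}
        one_mem' := fun w => by rw [one_smul]
        mul_mem' := fun {k k'} hk hk' w => by rw [mul_smul, hk, hk']
        inv_mem' := fun {k} hk w => by rw [← hk (k⁻¹ • w), smul_inv_smul] }
    have haT : a ∉ T := fun h => hab.symm (a1.symm.trans (Finset.mem_filter.mp h).2.1)
    have hxT : x ∈ T := by rw [hTe]; simp
    have hyT : y ∈ T := by rw [hTe]; simp
    have hzT : z ∈ T := by rw [hTe]; simp
    let φ : W → (Fin 3 ↪ T) × {w // w ∉ T} := fun k =>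
      (⟨![⟨(k : G) • x, (k.2 x).mpr hxT⟩, ⟨(k : G) • y, (k.2 y).mpr hyT⟩,
          ⟨(k : G) • z, (k.2 z).mpr hzT⟩], by
        intro i j
        fin_cases i <;> fin_cases j <;> simp [hxy, hxz, hyz, hxy.symm, hxz.symm, hyz.symm]⟩,
        ⟨(k : G) • a, fun h => haT ((k.2 a).mp h)⟩)
    have hφ : Function.Injective φ := by
      intro k k' e
      have e1 := congrArg Prod.fst e
      have e2 := congrArg (fun p => (p.2 : α)) e
      refine Subtype.ext (eq_of_four hsharp hxy hxz (fun h : x = a => haT (h ▸ hxT)) hyz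
        (fun h : y = a => haT (h ▸ hyT)) (fun h : z = a => haT (h ▸ hzT))
        (congrArg Subtype.val (DFunLike.congr_fun e1 0))
        (congrArg Subtype.val (DFunLike.congr_fun e1 1))
        (congrArg Subtype.val (DFunLike.congr_fun e1 2)) e2)
    have hW : Nat.card W ≤ 48 := by
      refine (Nat.card_le_card_of_injective φ hφ).trans (le_of_eq ?_)
      rw [Nat.card_prod, Nat.card_eq_fintype_card, Fintype.card_embedding_eq, Fintype.card_fin,
        Fintype.card_coe, hT3, Nat.card_eq_fintype_card, Fintype.card_subtype_compl,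
        Fintype.card_coe, hα, hT3]
      rfl
    have hσ : orderOf σ₁ = 2 := orderOf_eq_prime (hp := ⟨Nat.prime_two⟩) hs1 hne1
    have hCW : Subgroup.centralizer ({σ₁} : Set G) ≤ W := by
      intro k hk w
      rw [← hFT]
      simp only [F, Finset.mem_filter, Finset.mem_univ, true_and]
      rw [← mul_smul, ← Subgroup.mem_centralizer_singleton_iff.mp hk, mul_smul, smul_left_cancel_iff]
    have heq := Subgroup.eq_of_le_of_card_ge hCW (by rw [M11.card_centralizer_two hG hσ]; exact hW)
    have hgW : g ∈ W := by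
      intro w
      refine ⟨fun h => ?_, hTg w⟩
      have := hTg _ (hTg _ h)
      have h3 : g ^ 3 = 1 := eq4 (by simp [pow_succ, mul_smul, ga, gb, gc])
        (by simp [pow_succ, mul_smul, ga, gb, gc]) (by simp [pow_succ, mul_smul, ga, gb, gc])
        (by simp [pow_succ, mul_smul, gd])
      rwa [← mul_smul, ← mul_smul, ← pow_two, ← pow_succ, h3, one_smul] at this
    rw [← heq] at hgW
    have h := congrArg (fun u : G => u • a) (Subgroup.mem_centralizer_singleton_iff.mp hgW)
    simp only [mul_smul, a1, ga, gb, b1] at h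
    exact hac h.symm
  obtain ⟨e', he'⟩ := Finset.card_eq_one.mp hT1
  obtain ⟨-, e1, e2⟩ := Finset.mem_filter.mp (he' ▸ Finset.mem_singleton_self e' : e' ∈ T)
  have heQ : e' ∉ Q := by
    simp only [Q, Finset.mem_insert, Finset.mem_singleton]
    rintro (rfl | rfl | rfl | rfl)
    · exact hab.symm (a1.symm.trans e1)
    · exact hab (b1.symm.trans e1)
    · exact hcd.symm (c1.symm.trans e1)
    · exact hcd (d1.symm.trans e1)
  refine ⟨e', heQ, fun h hh => ?_⟩
  have hhQ : ∀ x, x ∈ Q → h • x ∈ Q := fun x hx => hh ▸ Finset.mem_image_of_mem _ hx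
  have hhQ' : ∀ x, x ∈ Q → h⁻¹ • x ∈ Q := fun x hx => by
    obtain ⟨w, hw, rfl⟩ := Finset.mem_image.mp (hh.symm ▸ hx)
    simpa using hw
  have key : ∀ v : G, v ^ 2 = 1 → (∀ x ∈ Q, v • x ∈ Q ∧ v • x ≠ x) → v • e' = e' := by
    intro v hv2 hvQ
    have hvv : ∀ x : α, v • v • x = x := fun x => by rw [← mul_smul, ← sq, hv2, one_smul]
    have hmem : ∀ x, x ∈ Q ↔ x = a ∨ x = b ∨ x = c ∨ x = d := fun x => by simp [Q]
    have hdet : ∀ p q r s : α, (∀ x ∈ Q, x = p ∨ x = q ∨ x = r ∨ x = s) → r ∈ Q → v • p = q →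
        p ≠ r → q ≠ r → v • r = s := by
      intro p q r s hall hr hpq hpr hqr
      obtain ⟨h1, h2⟩ := hvQ r hr
      rcases hall _ h1 with h' | h' | h' | h'
      · exfalso
        rw [← hvv r, h', hpq] at hqr
        exact hqr rfl
      · exfalso
        rw [← hvv r, h', ← hpq, hvv] at hpr
        exact hpr rfl
      · exact absurd h' h2
      · exact h'
    obtain ⟨h1, h2⟩ := hvQ a ((hmem a).mpr (Or.inl rfl))
    rcases (hmem _).mp h1 with h' | h' | h' | h'
    · exact absurd h' h2
    · have hc' : v • c = d := hdet a b c d (fun x hx => (hmem x).mp hx)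
        ((hmem c).mpr (Or.inr (Or.inr (Or.inl rfl)))) h' hac hbc
      have : v = σ₁ := eq4 (by rw [h', a1]) (by rw [← h', hvv, h', b1]) (by rw [hc', c1])
        (by rw [← hc', hvv, hc', d1])
      rw [this, e1]
    · have hb' : v • b = d := hdet a c b d (fun x hx => by
          rcases (hmem x).mp hx with r | r | r | r <;> tauto)
        ((hmem b).mpr (Or.inr (Or.inl rfl))) h' hab hbc.symm
      have : v = σ₂ := eq4 (by rw [h', a2]) (by rw [hb', b2]) (by rw [← h', hvv, h', c2])
        (by rw [← hb', hvv, hb', d2])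
      rw [this, e2]
    · have hb' : v • b = c := hdet a d b c (fun x hx => by
          rcases (hmem x).mp hx with r | r | r | r <;> tauto)
        ((hmem b).mpr (Or.inr (Or.inl rfl))) h' hab hbd.symm
      have : v = σ₁ * σ₂ := eq4 (by rw [h', mul_smul, a2, c1]) (by rw [hb', mul_smul, b2, d1])
        (by rw [← hb', hvv, hb', mul_smul, c2, a1]) (by rw [← h', hvv, h', mul_smul, d2, b1])
      rw [this, mul_smul, e2, e1]
  have hinT : h • e' ∈ T := by
    have hconj : ∀ v : G, v ^ 2 = 1 → (∀ x ∈ Q, v • x ∈ Q ∧ v • x ≠ x) →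
        v • (h • e') = h • e' := by
      intro v hv2 hvQ
      have := key (h⁻¹ * v * h)
        (by rw [show h⁻¹ * v * h = h⁻¹ * v * h⁻¹⁻¹ by rw [inv_inv], conj_pow, hv2]; group)
        (fun x hx => by
          rw [mul_smul, mul_smul]
          refine ⟨hhQ' _ (hvQ _ (hhQ x hx)).1, fun e => (hvQ _ (hhQ x hx)).2 ?_⟩
          exact inv_smul_eq_iff.mp e)
      rw [mul_smul, mul_smul, inv_smul_eq_iff] at this
      exact this
    refine Finset.mem_filter.mpr ⟨Finset.mem_univ _, hconj σ₁ hs1 ?_, hconj σ₂ hs2 ?_⟩ <;>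
      intro x hx <;> simp only [Q, Finset.mem_insert, Finset.mem_singleton] at hx ⊢ <;>
      rcases hx with rfl | rfl | rfl | rfl <;>
      simp [a1, b1, c1, d1, a2, b2, c2, d2, hab, hab.symm, hcd, hcd.symm, hac, hac.symm, hbd,
        hbd.symm]
  exact Finset.mem_singleton.mp (he' ▸ hinT)

end

/-- The five-point blocks of a sharply 4-transitive group of degree 11. -/
def sharpBlocks (G : Type*) [Group G] (α : Type*) [DecidableEq α] [MulAction G α] :
    Set (Finset α) :=
  {B | ∃ Q : Finset α, ∃ e : α, Q.card = 4 ∧ e ∉ Q ∧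
    (∀ h : G, Q.image (h • ·) = Q → h • e = e) ∧ B = insert e Q}

section

variable [Fintype G] [IsMultiplyPretransitive G α 4]
variable (hsharp : ∀ x : Fin 4 ↪ α, stabilizer G x = ⊥) (hG : Cfsg.IsM11 G)
variable (hα : Fintype.card α = 11)

include hsharp hG hα in
theorem exists_unique_fifth {Q : Finset α} (hQ : Q.card = 4) :
    ∃ e : α, e ∉ Q ∧ (∀ h : G, Q.image (h • ·) = Q → h • e = e) ∧
      ∀ e' : α, e' ∉ Q → (∀ h : G, Q.image (h • ·) = Q → h • e' = e') → e' = e := by
  classical
  obtain ⟨a, b, c, d, hab, hac, had, hbc, hbd, hcd, rfl⟩ := Finset.card_eq_four.mp hQ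
  obtain ⟨e, heQ, hfix⟩ := exists_fifth hsharp hG hα hab hac had hbc hbd hcd
  obtain ⟨g, ga, gb, gc, gd⟩ := exists_map_four (G := G) hab hac had hbc hbd hcd
    hbc hab.symm hbd hac.symm hcd had
  obtain ⟨e₁, -, -, -, -, -, hu⟩ :=
    exists_fixed_pair hsharp hα hab hac had hbc hbd hcd ga gb gc gd
  have hgQ : ({a, b, c, d} : Finset α).image (g • ·) = {a, b, c, d} := by
    refine Finset.eq_of_subset_of_card_le (fun x hx => ?_)
      (by rw [Finset.card_image_of_injective _ (MulAction.injective g)])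
    obtain ⟨w, hw, rfl⟩ := Finset.mem_image.mp hx
    simp only [Finset.mem_insert, Finset.mem_singleton] at hw ⊢
    rcases hw with rfl | rfl | rfl | rfl <;> simp [ga, gb, gc, gd]
  refine ⟨e, heQ, hfix, fun e' he' hfix' => ?_⟩
  have h1 := (hu e (hfix g hgQ)).resolve_left (fun h => heQ (by simp [h]))
  have h2 := (hu e' (hfix' g hgQ)).resolve_left (fun h => he' (by simp [h]))
  rw [h1, h2]

include hsharp hG hα in
theorem steiner_sharpBlocks : Cfsg.IsSteinerSystem 4 5 (sharpBlocks G α) := by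
  classical
  refine ⟨?_, fun s hs => ?_⟩
  · rintro B ⟨Q, e, hQ, he, -, rfl⟩
    rw [Finset.card_insert_of_notMem he, hQ]
  obtain ⟨e, he, hfix, -⟩ := exists_unique_fifth hsharp hG hα hs
  refine ⟨insert e s, ⟨⟨s, e, hs, he, hfix, rfl⟩, Finset.subset_insert _ _⟩, ?_⟩
  rintro B ⟨⟨Q, f, hQ, hf, hffix, rfl⟩, hsB⟩
  -- it suffices that `s` and its missing point reproduce `insert f Q`
  by_cases hfs : f ∈ s
  · obtain ⟨a, haQ, has⟩ : ∃ a ∈ Q, a ∉ s := by
      by_contra h
      push_neg at h
      have : Q = s := Finset.eq_of_subset_of_card_le h (by rw [hs, hQ])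
      exact hf (this ▸ hfs)
    have hQs : s = insert f (Q.erase a) := by
      refine Finset.eq_of_subset_of_card_le (fun x hx => ?_) ?_
      · rcases Finset.mem_insert.mp (hsB hx) with h | h
        · exact Finset.mem_insert.mpr (Or.inl h)
        · exact Finset.mem_insert_of_mem (Finset.mem_erase.mpr ⟨fun e => has (e ▸ hx), h⟩)
      · rw [hs, Finset.card_insert_of_notMem (fun h => hf (Finset.mem_of_mem_erase h)),
          Finset.card_erase_of_mem haQ, hQ]
    obtain ⟨b, c, d, hbc, hbd, hcd, hbcd⟩ := Finset.card_eq_three.mp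
      (show (Q.erase a).card = 3 by rw [Finset.card_erase_of_mem haQ, hQ])
    have hm : ∀ x ∈ ({b, c, d} : Finset α), x ≠ a ∧ x ≠ f ∧ x ∈ Q := fun x hx => by
      rw [← hbcd] at hx
      exact ⟨Finset.ne_of_mem_erase hx, fun e => hf (e ▸ Finset.mem_of_mem_erase hx),
        Finset.mem_of_mem_erase hx⟩
    obtain ⟨hba, hbf, hbQ⟩ := hm b (by simp)
    obtain ⟨hca, hcf, hcQ⟩ := hm c (by simp)
    obtain ⟨hda, hdf, hdQ⟩ := hm d (by simp)
    obtain ⟨g, gb, gc, gd, ga⟩ := exists_map_four (G := G) hbc hbd hba hcd hca hda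
      hcd hbc.symm hca hbd.symm hda hba
    obtain ⟨e₁, -, -, -, -, -, hu⟩ :=
      exists_fixed_pair hsharp hα hbc hbd hba hcd hca hda gb gc gd ga
    have hQeq : Q = insert a {b, c, d} := by rw [← hbcd, Finset.insert_erase haQ]
    have hgQ : Q.image (g • ·) = Q := by
      refine Finset.eq_of_subset_of_card_le (fun x hx => ?_)
        (by rw [Finset.card_image_of_injective _ (MulAction.injective g)])
      obtain ⟨w, hw, rfl⟩ := Finset.mem_image.mp hx
      rw [hQeq] at hw ⊢
      simp only [Finset.mem_insert, Finset.mem_singleton] at hw ⊢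
      rcases hw with rfl | rfl | rfl | rfl <;> simp [ga, gb, gc, gd]
    have hf1 := (hu f (hffix g hgQ)).resolve_left (fun h => hf (h ▸ haQ))
    have hgs : s.image (g • ·) = s := by
      refine Finset.eq_of_subset_of_card_le (fun x hx => ?_)
        (by rw [Finset.card_image_of_injective _ (MulAction.injective g)])
      obtain ⟨w, hw, rfl⟩ := Finset.mem_image.mp hx
      rw [hQs, hbcd] at hw ⊢
      simp only [Finset.mem_insert, Finset.mem_singleton] at hw ⊢
      rcases hw with rfl | rfl | rfl | rfl <;> simp [hffix g hgQ, gb, gc, gd]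
    have hea : e = a := (hu e (hfix g hgs)).resolve_right fun h => he (by rw [h, ← hf1]; exact hfs)
    rw [hea, hQs, Finset.insert_comm, Finset.insert_erase haQ]
  · have hsQ : s = Q := Finset.eq_of_subset_of_card_le
      (fun x hx => (Finset.mem_insert.mp (hsB hx)).resolve_left (fun h => hfs (h ▸ hx)))
      (by rw [hs, hQ])
    subst hsQ
    obtain ⟨e₀, -, -, huniq⟩ := exists_unique_fifth hsharp hG hα hs
    rw [huniq e he hfix, huniq f hf hffix]

include hsharp hG hα in
/-- `G` is the automorphism group of its system of blocks. -/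
theorem exists_mulEquiv_of_sharp :
    ∃ B : Set (Finset α), Cfsg.IsSteinerSystem 4 5 B ∧ Nonempty (G ≃* Cfsg.setSystemAut B) := by
  classical
  refine ⟨sharpBlocks G α, steiner_sharpBlocks hsharp hG hα, ?_⟩
  have hmem : ∀ g : G, MulAction.toPermHom G α g ∈ Cfsg.setSystemAut (sharpBlocks G α) := by
    intro g
    rw [mem_setSystemAut]
    refine Set.eq_of_subset_of_ncard_le ?_ ?_ (Set.toFinite _)
    swap
    · rw [Set.ncard_image_of_injective _ (Finset.image_injective (Equiv.injective _))]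
    rintro _ ⟨B, ⟨Q, e, hQ, he, hfix, rfl⟩, rfl⟩
    refine ⟨Q.image (g • ·), g • e, by rw [Finset.card_image_of_injective _ (MulAction.injective g), hQ],
      fun h => he ?_, fun h hh => ?_, ?_⟩
    · obtain ⟨w, hw, hwe⟩ := Finset.mem_image.mp h
      exact MulAction.injective g hwe ▸ hw
    · have h1 : Q.image ((g⁻¹ * h * g) • ·) = Q := by
        have := congrArg (fun S : Finset α => S.image (g⁻¹ • ·)) hh
        simp only [Finset.image_image] at this
        calc Q.image ((g⁻¹ * h * g) • ·)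
            = Q.image ((g⁻¹ • ·) ∘ (h • ·) ∘ (g • ·)) := by
              refine Finset.image_congr fun x _ => ?_
              simp [mul_smul]
          _ = Q.image ((g⁻¹ • ·) ∘ (g • ·)) := this
          _ = Q := by simp [Function.comp_def]
      have h2 := hfix _ h1
      rwa [mul_smul, mul_smul, inv_smul_eq_iff] at h2
    · simp only [Finset.image_insert]; rfl
  let f := (MulAction.toPermHom G α).codRestrict (Cfsg.setSystemAut (sharpBlocks G α)) hmem
  have := faithful_of_sharp (G := G) (α := α) (k := 4)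
    (by rw [Nat.card_eq_fintype_card, hα]; norm_num) hsharp
  have hinj : Function.Injective f := fun x y h =>
    MulAction.toPerm_injective (congrArg Subtype.val h)
  obtain ⟨hM, -, -⟩ := aut11_facts hα (steiner_sharpBlocks hsharp hG hα)
  exact ⟨MulEquiv.ofBijective f (hinj.bijective_of_nat_card_le (by rw [hG.2, hM.2]))⟩

end

end Cfsg.Agent.Steiner
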