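import Cfsg.Agent.Lib.Steiner.AutSearch
import Cfsg.Agent.Lib.Steiner.Models12

set_option autoImplicit false
set_option maxRecDepth 100000

/-! The automorphism group of `S(4, 5, 11)`. -/

namespace Cfsg.Agent.Steiner

/-- Automorphisms giving 4-transitivity. -/
def autTrans11 : List (List ℕ) :=
  [[0, 1, 2, 3, 4, 5, 6, 7, 8, 9, 10],
    [1, 0, 2, 3, 4, 10, 8, 9, 6, 7, 5],
    [2, 0, 1, 3, 4, 9, 7, 10, 5, 8, 6],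
    [3, 0, 1, 2, 4, 8, 6, 5, 10, 9, 7],
    [4, 0, 1, 2, 3, 6, 8, 7, 9, 10, 5],
    [5, 0, 1, 2, 7, 10, 9, 4, 6, 8, 3],
    [6, 0, 1, 2, 8, 3, 4, 10, 7, 5, 9],
    [7, 0, 1, 2, 5, 9, 10, 3, 8, 6, 4],
    [8, 0, 1, 2, 6, 4, 3, 9, 5, 7, 10],
    [9, 0, 1, 2, 10, 5, 7, 6, 3, 4, 8],
    [10, 0, 1, 2, 9, 7, 5, 8, 4, 3, 6],
    [0, 2, 1, 3, 4, 6, 5, 8, 7, 10, 9],
    [0, 3, 1, 2, 4, 7, 10, 9, 6, 5, 8],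
    [0, 4, 1, 2, 3, 5, 9, 10, 8, 7, 6],
    [0, 5, 1, 2, 7, 3, 6, 8, 9, 4, 10],
    [0, 6, 1, 2, 8, 9, 7, 5, 4, 10, 3],
    [0, 7, 1, 2, 5, 4, 8, 6, 10, 3, 9],
    [0, 8, 1, 2, 6, 10, 5, 7, 3, 9, 4],
    [0, 9, 1, 2, 10, 8, 3, 4, 7, 6, 5],
    [0, 10, 1, 2, 9, 6, 4, 3, 5, 8, 7],
    [0, 1, 3, 2, 4, 10, 7, 6, 9, 8, 5],
    [0, 1, 4, 2, 3, 9, 5, 8, 10, 6, 7],
    [0, 1, 5, 2, 7, 6, 3, 9, 8, 10, 4],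
    [0, 1, 6, 2, 8, 7, 9, 4, 5, 3, 10],
    [0, 1, 7, 2, 5, 8, 4, 10, 6, 9, 3],
    [0, 1, 8, 2, 6, 5, 10, 3, 7, 4, 9],
    [0, 1, 9, 2, 10, 3, 8, 7, 4, 5, 6],
    [0, 1, 10, 2, 9, 4, 6, 5, 3, 7, 8],
    [0, 1, 2, 4, 3, 7, 8, 5, 6, 10, 9],
    [0, 1, 2, 5, 7, 4, 9, 3, 10, 8, 6],
    [0, 1, 2, 6, 8, 10, 4, 9, 3, 5, 7],
    [0, 1, 2, 7, 5, 3, 10, 4, 9, 6, 8],
    [0, 1, 2, 8, 6, 9, 3, 10, 4, 7, 5],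
    [0, 1, 2, 9, 10, 6, 7, 8, 5, 4, 3],
    [0, 1, 2, 10, 9, 8, 5, 6, 7, 3, 4]]

theorem checkAut11 : checkAut 11 4 4 model11 autTrans11 1 = true := by
  decide +kernel

theorem autFacts11 : AutFacts (decSet 11 model11) 4 1 :=
  autFacts_of_checkAut (by decide) model11_lt checkAut11

end Cfsg.Agent.Steiner
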