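import Mathlib

set_option autoImplicit false

/-! Sharply multiply transitive groups: order, and simplicity in degrees 11 and 12. -/

namespace Cfsg.Agent.Steiner

open MulAction

variable {G : Type*} [Group G] {α : Type*} [MulAction G α]

/-- A sharply `k`-transitive action: transitive and free on injective `k`-tuples. -/
theorem card_of_sharp [Finite α] {k : ℕ} (hk : k ≤ Nat.card α)
    [IsMultiplyPretransitive G α k]
    (hsharp : ∀ x : Fin k ↪ α, stabilizer G x = ⊥) :
    Nat.card G = (Nat.card α).descFactorial k := by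
  classical
  have : Fintype α := Fintype.ofFinite α
  rw [Nat.card_eq_fintype_card (α := α)] at hk ⊢
  obtain ⟨x⟩ := Function.Embedding.nonempty_of_card_le (α := Fin k) (β := α) (by simpa using hk)
  have h := index_stabilizer_of_transitive G x
  rw [hsharp x, Subgroup.index_bot] at h
  rw [h, Nat.card_eq_fintype_card, Fintype.card_embedding_eq, Fintype.card_fin]

theorem faithful_of_sharp [Finite α] {k : ℕ} (hk : k ≤ Nat.card α)
    (hsharp : ∀ x : Fin k ↪ α, stabilizer G x = ⊥) : FaithfulSMul G α := by
  classical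
  have : Fintype α := Fintype.ofFinite α
  rw [Nat.card_eq_fintype_card] at hk
  obtain ⟨x⟩ := Function.Embedding.nonempty_of_card_le (α := Fin k) (β := α) (by simpa using hk)
  refine ⟨fun {g h} e => ?_⟩
  have : h⁻¹ * g ∈ stabilizer G x := by
    rw [mem_stabilizer_iff]; ext i
    simp [Function.Embedding.smul_apply, mul_smul, e]
  rw [hsharp x, Subgroup.mem_bot, inv_mul_eq_one] at this
  exact this.symm

/-- The centralizer of a transitive abelian subgroup acting faithfully is small. -/
theorem card_centralizer_le [Finite α] [FaithfulSMul G α] (P : Subgroup G)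
    (a : α) (htr : ∀ b : α, ∃ p ∈ P, p • a = b) :
    Nat.card (Subgroup.centralizer (P : Set G)) ≤ Nat.card α := by
  refine Nat.card_le_card_of_injective (fun c => (c : G) • a) ?_
  rintro ⟨c, hc⟩ ⟨d, hd⟩ (e : c • a = d • a)
  refine Subtype.ext (eq_of_smul_eq_smul fun b : α => ?_)
  obtain ⟨p, hp, rfl⟩ := htr b
  rw [← mul_smul, ← mul_smul, ← Subgroup.mem_centralizer_iff.mp hc p hp,
    ← Subgroup.mem_centralizer_iff.mp hd p hp, mul_smul, mul_smul, e]

theorem prime_subgroup_transitive [Finite α] [FaithfulSMul G α] (P : Subgroup G) {p : ℕ}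
    [hp : Fact p.Prime] (hP : Nat.card P = p) (hα : Nat.card α = p) :
    ∃ a : α, ∀ b : α, ∃ q ∈ P, q • a = b := by
  have hPG : IsPGroup p P := IsPGroup.of_card (n := 1) (by simp [hP])
  have : ∃ a : α, ∃ q : P, q • a ≠ a := by
    by_contra h
    push Not at h
    have : Nat.card P = 1 := by
      rw [Nat.card_eq_one_iff_unique]
      refine ⟨⟨fun a b => ?_⟩, ⟨1⟩⟩
      apply Subtype.ext
      exact eq_of_smul_eq_smul fun x => (h x a).trans (h x b).symm
    exact hp.out.one_lt.ne' (hP ▸ this)
  obtain ⟨a, q, hq⟩ := this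
  refine ⟨a, fun b => ?_⟩
  obtain ⟨n, hn⟩ := hPG.card_orbit a
  have hle : Nat.card (orbit P a) ≤ p := hα ▸ Nat.card_le_card_of_injective _ Subtype.val_injective
  have h1 : 1 < Nat.card (orbit P a) := by
    have : Finite (orbit P a) := inferInstance
    rw [Finite.one_lt_card_iff_nontrivial]
    exact ⟨⟨⟨a, mem_orbit_self a⟩, ⟨q • a, mem_orbit a q⟩, fun e => hq (congrArg Subtype.val e).symm⟩⟩
  have : Nat.card (orbit P a) = Nat.card α := by
    rcases n with _ | n
    · simp [hn] at h1
    · have : p ≤ p ^ (n + 1) := by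
        calc p = p ^ 1 := (pow_one p).symm
          _ ≤ p ^ (n + 1) := Nat.pow_le_pow_right hp.out.pos (by omega)
      omega
  have hu : orbit P a = Set.univ := by
    apply Set.eq_of_subset_of_ncard_le (Set.subset_univ _) ?_ (Set.toFinite _)
    rw [Set.ncard_univ, ← Nat.card_coe_set_eq, this]
  obtain ⟨q, hq⟩ : b ∈ orbit P a := hu ▸ Set.mem_univ b
  exact ⟨q, q.2, hq⟩

/-- A sharply 4-transitive group of degree 11 has order 7920 and is simple. -/
theorem simple_of_sharp4_degree11 [Finite α] (hα : Nat.card α = 11)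
    [IsMultiplyPretransitive G α 4] (hsharp : ∀ x : Fin 4 ↪ α, stabilizer G x = ⊥) :
    IsSimpleGroup G ∧ Nat.card G = 7920 := by
  classical
  have hG : Nat.card G = 7920 := by
    rw [card_of_sharp (by omega) hsharp, hα]; rfl
  have : Finite G := Nat.finite_of_card_ne_zero (by omega)
  have : FaithfulSMul G α := faithful_of_sharp (by omega) hsharp
  have hFact : Fact (Nat.Prime 11) := ⟨by norm_num⟩
  obtain ⟨P⟩ := (inferInstance : Nonempty (Sylow 11 G))
  have hfac : (7920 : ℕ).factorization 11 = 1 := by
    rw [show (7920 : ℕ) = 11 * 720 from rfl, Nat.factorization_mul (by norm_num) (by norm_num),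
      Finsupp.add_apply, Nat.Prime.factorization_self (by norm_num),
      Nat.factorization_eq_zero_of_not_dvd (by norm_num)]
  have hP : Nat.card (P : Subgroup G) = 11 := by
    rw [P.card_eq_multiplicity, hG, hfac, pow_one]
  set N := Subgroup.normalizer ((P : Subgroup G) : Set G) with hN
  obtain ⟨a, htr⟩ := prime_subgroup_transitive (P : Subgroup G) hP hα
  have hcle : Nat.card (Subgroup.centralizer ((P : Subgroup G) : Set G)) ≤ 11 :=
    (card_centralizer_le _ a htr).trans_eq hα
  have hcyc : IsCyclic (P : Subgroup G) := isCyclic_of_prime_card hP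
  have hPC : (P : Subgroup G) ≤ Subgroup.centralizer ((P : Subgroup G) : Set G) :=
    Subgroup.le_centralizer (P : Subgroup G)
  have hC : Subgroup.centralizer ((P : Subgroup G) : Set G) = (P : Subgroup G) :=
    (Subgroup.eq_of_le_of_card_ge hPC (hcle.trans_eq hP.symm)).symm
  have hN110 : Nat.card N ∣ 110 := by
    have key := Subgroup.card_dvd_of_injective _
      (QuotientGroup.kerLift_injective (Subgroup.normalizerMonoidHom (P : Subgroup G)))
    rw [← Subgroup.index, IsCyclic.card_mulAut, hP, Subgroup.normalizerMonoidHom_ker, hC,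
      Nat.totient_prime (by norm_num), ← Subgroup.relIndex] at key
    have h2 := Subgroup.relIndex_mul_index (H := (P : Subgroup G)) (K := N) Subgroup.le_normalizer
    have h3 := Subgroup.card_mul_index (P : Subgroup G)
    have h4 := Subgroup.card_mul_index N
    rw [hP, hG] at h3
    rw [hG] at h4
    have hNe : Nat.card N = 11 * (P : Subgroup G).relIndex N := by
      have hi : 0 < N.index := Nat.pos_of_ne_zero (fun h => by simp [h] at h4)
      apply Nat.eq_of_mul_eq_mul_right hi
      rw [h4, mul_assoc, h2, h3]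
    rw [hNe]
    exact Nat.mul_dvd_mul_left 11 key
  have hN55 : Nat.card N = 55 := by
    have hmod := card_sylow_modEq_one 11 G
    rw [Sylow.card_eq_index_normalizer] at hmod
    have h4 := Subgroup.card_mul_index N
    rw [hG] at h4
    have h11 : 11 ∣ Nat.card N := hP ▸ Subgroup.card_dvd_of_le Subgroup.le_normalizer
    have hle : Nat.card N ≤ 110 := Nat.le_of_dvd (by norm_num) hN110
    obtain ⟨r, hr⟩ := h11
    rw [hr] at h4 hN110 hle ⊢
    change N.index % 11 = 1 % 11 at hmod
    have hr10 : r ∣ 10 := Nat.dvd_of_mul_dvd_mul_left (k := 11) (by norm_num) hN110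
    have hr1 : r ≤ 10 := by omega
    interval_cases r <;> omega
  refine ⟨?_, hG⟩
  have : Nontrivial G := Finite.one_lt_card_iff_nontrivial.mp (by omega)
  refine ⟨fun M hM => ?_⟩
  have hM' : M.Normal := hM
  by_cases hbot : M = ⊥
  · exact Or.inl hbot
  refine Or.inr ?_
  have h2 : IsMultiplyPretransitive G α 2 :=
    isMultiplyPretransitive_of_le (n := 4) (by norm_num) (by omega)
  have hprim : IsPreprimitive G α := isPreprimitive_of_is_two_pretransitive h2
  have trans_of_normal : ∀ K : Subgroup G, K.Normal → K ≠ ⊥ → 11 ∣ Nat.card K := by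
    intro K hK hK1
    have hKtr : IsPretransitive K α := by
      apply IsQuasiPreprimitive.isPretransitive_of_normal (G := G)
      intro h
      apply hK1
      rw [eq_bot_iff]
      intro k hk
      rw [Subgroup.mem_bot]
      exact eq_of_smul_eq_smul fun x : α => by
        have hx : x ∈ fixedPoints K α := h ▸ Set.mem_univ x
        rw [one_smul]
        exact hx ⟨k, hk⟩
    have := index_stabilizer_of_transitive K a
    rw [← hα, ← this]
    exact Subgroup.index_dvd_card _
  have h11M : 11 ∣ Nat.card M := trans_of_normal M hM' hbot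
  have hPM : (P : Subgroup G) ≤ M := by
    obtain ⟨Q⟩ := (inferInstance : Nonempty (Sylow 11 M))
    have hQ : 11 ∣ Nat.card (Q : Subgroup M) := Q.dvd_card_of_dvd_card h11M
    have hQG : IsPGroup 11 ((Q : Subgroup M).map M.subtype) := Q.2.map _
    obtain ⟨P', hP'⟩ := hQG.exists_le_sylow
    have hP'c : Nat.card (P' : Subgroup G) = 11 := by
      rw [P'.card_eq_multiplicity, hG, hfac, pow_one]
    have heq : (Q : Subgroup M).map M.subtype = (P' : Subgroup G) := by
      apply Subgroup.eq_of_le_of_card_ge hP'
      rw [Subgroup.card_map_of_injective M.subtype_injective, hP'c]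
      exact Nat.le_of_dvd Nat.card_pos hQ
    have hP'M : (P' : Subgroup G) ≤ M := heq ▸ Subgroup.map_subtype_le _
    obtain ⟨g, rfl⟩ := exists_smul_eq G P' P
    rw [Sylow.coe_subgroup_smul]
    intro x hx
    rw [Subgroup.mem_pointwise_smul_iff_inv_smul_mem] at hx
    have := hP'M hx
    simpa [mul_assoc] using hM'.conj_mem _ this g
  have hfr : N ⊔ M = ⊤ := Sylow.normalizer_sup_eq_top' P hPM
  have hri : M.index = M.relIndex N := by
    rw [← Subgroup.relIndex_sup_right N M, hfr, Subgroup.relIndex_top_right]
  have hPMN : (P : Subgroup G) ≤ M ⊓ N := le_inf hPM Subgroup.le_normalizer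
  have hmul : Nat.card (M ⊓ N : Subgroup G) * M.relIndex N = 55 := by
    rw [← hN55, ← Subgroup.inf_relIndex_right, ← Subgroup.relIndex_bot_left,
      Subgroup.relIndex_mul_relIndex _ _ _ bot_le inf_le_right, Subgroup.relIndex_bot_left]
  have h11 : 11 ∣ Nat.card (M ⊓ N : Subgroup G) := hP ▸ Subgroup.card_dvd_of_le hPMN
  obtain ⟨r, hr⟩ := h11
  rw [hr] at hmul
  have hr5 : r * M.relIndex N = 5 := by
    rw [mul_assoc] at hmul; omega
  rcases (Nat.dvd_prime (by norm_num)).mp (Dvd.intro_left r hr5) with h | h
  · rw [← Subgroup.index_eq_one, hri, h]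
  exfalso
  have hr1 : r = 1 := by rw [h] at hr5; omega
  subst hr1
  have heqP : M ⊓ N = (P : Subgroup G) :=
    (Subgroup.eq_of_le_of_card_ge hPMN (by rw [hr, hP])).symm
  set Q : Sylow 11 M := P.subtype hPM with hQdef
  have hQc : Subgroup.normalizer ((Q : Subgroup M) : Set M) ≤
      Subgroup.centralizer ((Q : Subgroup M) : Set M) := by
    intro m hm
    have hmN : (m : G) ∈ (P : Subgroup G) := by
      rw [← heqP]
      refine ⟨m.2, ?_⟩
      show (m : G) ∈ N
      rw [hN, Subgroup.mem_normalizer_iff]
      intro x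
      rw [Subgroup.mem_normalizer_iff] at hm
      constructor
      · intro hx
        simpa [hQdef, Sylow.coe_subtype, Subgroup.mem_subgroupOf] using (hm ⟨x, hPM hx⟩).mp
          (by simpa [hQdef, Sylow.coe_subtype, Subgroup.mem_subgroupOf] using hx)
      · intro hx
        have hxM : x ∈ M := by
          have := hM'.conj_mem _ (hPM hx) (m : G)⁻¹
          simpa [mul_assoc] using this
        exact (hm ⟨x, hxM⟩).mpr (by simpa [hQdef, Sylow.coe_subtype, Subgroup.mem_subgroupOf] using hx)
    rw [Subgroup.mem_centralizer_iff]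
    intro x hx
    apply Subtype.ext
    have := congrArg Subtype.val
      (IsMulCommutative.is_comm.comm (⟨(x : G), hx⟩ : (P : Subgroup G)) ⟨(m : G), hmN⟩)
    simpa using this
  have hK := MonoidHom.ker_transferSylow_isComplement' Q hQc
  have hndvd := MonoidHom.not_dvd_card_ker_transferSylow Q hQc
  have hcard := hK.card_mul
  set K := (MonoidHom.transferSylow Q hQc).ker with hKdef
  have hQ11 : Nat.card (Q : Subgroup M) = 11 := by
    rw [hQdef, Sylow.coe_subtype, Nat.card_congr (Subgroup.subgroupOfEquivOfLe hPM).toEquiv, hP]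
  have hM5 : Nat.card M = 1584 := by
    have := Subgroup.card_mul_index M
    rw [hri, h, hG] at this
    omega
  rw [hQ11, hM5] at hcard
  have hK144 : Nat.card K = 144 := by omega
  have hmem : ∀ x : M, x ^ 144 = 1 → x ∈ K := by
    intro x hx
    rw [hKdef, MonoidHom.mem_ker]
    set y := MonoidHom.transferSylow Q hQc x
    have h1 : y ^ 144 = 1 := by rw [← map_pow, hx, map_one]
    have h2 : y ^ 11 = 1 := (congrArg (fun e => y ^ e) hQ11).symm.trans pow_card_eq_one'
    have h3 : y ^ (Nat.gcd 144 11) = 1 := pow_gcd_eq_one.mpr ⟨h1, h2⟩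
    simpa using h3
  have hKn : (K.map M.subtype).Normal := by
    constructor
    rintro _ ⟨k, hk, rfl⟩ g
    refine ⟨⟨g * k * g⁻¹, hM'.conj_mem _ k.2 g⟩, hmem _ ?_, rfl⟩
    apply Subtype.ext
    have hk1 : (⟨k, hk⟩ : K) ^ 144 = 1 := hK144 ▸ pow_card_eq_one'
    have hk2 : (k : G) ^ 144 = 1 := by
      simpa using congrArg (fun z : K => ((z : M) : G)) hk1
    simp [SubmonoidClass.coe_pow, conj_pow, hk2]
  have hKb : K.map M.subtype ≠ ⊥ := by
    intro e
    have := Subgroup.card_map_of_injective (K := K) M.subtype_injective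
    rw [e, Subgroup.card_bot, hK144] at this
    omega
  have := trans_of_normal _ hKn hKb
  rw [Subgroup.card_map_of_injective M.subtype_injective, hK144] at this
  norm_num at this

theorem stabilizer_sharp {k : ℕ} (a : α)
    (hsharp : ∀ x : Fin (k + 1) ↪ α, stabilizer G x = ⊥) :
    ∀ x : Fin k ↪ SubMulAction.ofStabilizer G a, stabilizer (stabilizer G a) x = ⊥ := by
  intro x
  rw [eq_bot_iff]
  intro g hg
  rw [Subgroup.mem_bot]
  let y : Fin (k + 1) ↪ α := ⟨Fin.cons a (fun i => (x i : α)), by
    rw [Fin.cons_injective_iff]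
    exact ⟨by rintro ⟨i, hi⟩; exact (SubMulAction.mem_ofStabilizer_iff G a).mp (x i).2 hi,
      Subtype.val_injective.comp x.injective⟩⟩
  have : (g : G) ∈ stabilizer G y := by
    rw [mem_stabilizer_iff]
    ext i
    refine Fin.cases ?_ ?_ i
    · exact g.2
    · intro j
      have := congrArg (fun e : Fin k ↪ SubMulAction.ofStabilizer G a => ((e j : _) : α))
        (mem_stabilizer_iff.mp hg)
      simpa [y, SetLike.val_smul, Subgroup.smul_def] using this
  rw [hsharp y] at this
  exact Subtype.ext this

/-- A sharply 5-transitive group of degree 12 has order 95040 and is simple. -/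
theorem simple_of_sharp5_degree12 [Finite α] (hα : Nat.card α = 12)
    [IsMultiplyPretransitive G α 5] (hsharp : ∀ x : Fin 5 ↪ α, stabilizer G x = ⊥) :
    IsSimpleGroup G ∧ Nat.card G = 95040 := by
  classical
  have hG : Nat.card G = 95040 := by
    rw [card_of_sharp (by omega) hsharp, hα]; rfl
  have : Finite G := Nat.finite_of_card_ne_zero (by omega)
  have : FaithfulSMul G α := faithful_of_sharp (by omega) hsharp
  refine ⟨?_, hG⟩
  have h2 : IsMultiplyPretransitive G α 2 :=
    isMultiplyPretransitive_of_le (n := 5) (by norm_num) (by omega)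
  have hprim : IsPreprimitive G α := isPreprimitive_of_is_two_pretransitive h2
  have htr : IsPretransitive G α := hprim.toIsPretransitive
  obtain ⟨a⟩ : Nonempty α := Finite.card_pos_iff.mp (by omega)
  have hβ : Nat.card (SubMulAction.ofStabilizer G a) = 11 := by
    have : Fintype α := Fintype.ofFinite α
    have h1 : ((SubMulAction.ofStabilizer G a : SubMulAction (stabilizer G a) α) : Set α) = {a}ᶜ := rfl
    have h3 : Nat.card (SubMulAction.ofStabilizer G a) = Set.ncard ({a}ᶜ : Set α) := by
      rw [← h1]; exact Nat.card_coe_set_eq _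
    rw [h3, Set.ncard_compl, Set.ncard_singleton, hα]
  have : IsMultiplyPretransitive (stabilizer G a) (SubMulAction.ofStabilizer G a) 4 :=
    (SubMulAction.ofStabilizer.isMultiplyPretransitive (n := 4) (a := a)).mp inferInstance
  obtain ⟨hs, hS⟩ := simple_of_sharp4_degree11 hβ (stabilizer_sharp a hsharp)
  have : Nontrivial G := Finite.one_lt_card_iff_nontrivial.mp (by omega)
  refine ⟨fun M hM => ?_⟩
  have hM' : M.Normal := hM
  by_cases hbot : M = ⊥
  · exact Or.inl hbot
  refine Or.inr ?_
  have hMtr : IsPretransitive M α := by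
    apply IsQuasiPreprimitive.isPretransitive_of_normal (G := G)
    intro h
    apply hbot
    rw [eq_bot_iff]
    intro k hk
    rw [Subgroup.mem_bot]
    exact eq_of_smul_eq_smul fun x : α => by
      have hx : x ∈ fixedPoints M α := h ▸ Set.mem_univ x
      rw [one_smul]
      exact hx ⟨k, hk⟩
  have hn : (M.subgroupOf (stabilizer G a)).Normal := hM'.subgroupOf _
  rcases hs.eq_bot_or_eq_top_of_normal _ hn with h | h
  · exfalso
    -- `M` is regular of order 12 and `G` is 2-transitive: all nontrivial elements of `M` are conjugate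
    have hfix : ∀ m ∈ M, m • a = a → m = 1 := by
      intro m hm e
      have : (⟨m, e⟩ : stabilizer G a) ∈ M.subgroupOf (stabilizer G a) := hm
      rw [h, Subgroup.mem_bot] at this
      exact congrArg Subtype.val this
    have hbij : Function.Bijective (fun m : M => (m : G) • a) := by
      constructor
      · intro x y e
        have := hfix ((y : G)⁻¹ * x) (mul_mem (inv_mem y.2) x.2)
          (by rw [mul_smul, show (x : G) • a = (y : G) • a from e, inv_smul_smul])
        rw [inv_mul_eq_one] at this
        exact Subtype.ext this.symm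
      · intro b
        obtain ⟨m, hm⟩ := exists_smul_eq M a b
        exact ⟨m, hm⟩
    have hMc : Nat.card M = 12 := (Nat.card_congr (Equiv.ofBijective _ hbij)).trans hα
    have hFact : Fact (Nat.Prime 2) := ⟨by norm_num⟩
    have hFact3 : Fact (Nat.Prime 3) := ⟨by norm_num⟩
    obtain ⟨x, hx⟩ := exists_prime_orderOf_dvd_card' (G := M) 2 (by rw [hMc]; norm_num)
    obtain ⟨y, hy⟩ := exists_prime_orderOf_dvd_card' (G := M) 3 (by rw [hMc]; norm_num)
    have hxa : (x : G) • a ≠ a := fun e => by
      have := hfix _ x.2 e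
      have : x = 1 := Subtype.ext this
      rw [this, orderOf_one] at hx; omega
    have hya : (y : G) • a ≠ a := fun e => by
      have := hfix _ y.2 e
      have : y = 1 := Subtype.ext this
      rw [this, orderOf_one] at hy; omega
    obtain ⟨g, hg1, hg2⟩ := is_two_pretransitive_iff.mp h2 (Ne.symm hxa) (Ne.symm hya)
    have hconj : g * x * g⁻¹ = (y : G) := by
      have hmem : g * x * g⁻¹ ∈ M := hM'.conj_mem _ x.2 g
      have : (⟨g * x * g⁻¹, hmem⟩ : M) = y := by
        apply hbij.1
        show (g * x * g⁻¹) • a = (y : G) • a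
        rw [mul_smul, mul_smul, show g⁻¹ • a = a by rw [inv_smul_eq_iff, hg1], hg2]
      exact congrArg Subtype.val this
    have h23 : orderOf (y : G) = orderOf (x : G) := by
      rw [← hconj, ← MulAut.conj_apply, MulEquiv.orderOf_eq]
    rw [Subgroup.orderOf_coe, Subgroup.orderOf_coe, hx, hy] at h23
    omega
  · rw [Subgroup.subgroupOf_eq_top] at h
    rw [eq_top_iff]
    intro g _
    obtain ⟨m, hm⟩ := exists_smul_eq M a (g • a)
    have hst : (m : G)⁻¹ * g ∈ stabilizer G a := by
      rw [mem_stabilizer_iff, mul_smul, inv_smul_eq_iff]; exact hm.symm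
    simpa using mul_mem m.2 (h hst)

end Cfsg.Agent.Steiner
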