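import Mathlib
import Cfsg.Prelude.Def_Sporadic
import Cfsg.Agent.Lib.Steiner.SharpDegree11
import Cfsg.Agent.Lib.Steiner.Aut11
import Cfsg.Agent.Lib.Steiner.Aut12

set_option autoImplicit false

/-! Automorphism groups of `S(4, 5, 11)` and `S(5, 6, 12)`. -/

namespace Cfsg.Agent.Steiner

open Finset

/-- Transport of transitivity and tuple stabilisers from the model. -/
theorem autFacts_transfer {v t k n c : ℕ} {M : Set (Finset (Fin v))}
    (hnf : ∀ B : Set (Finset (Fin v)), Cfsg.IsSteinerSystem t k B →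
      ∃ e : Equiv.Perm (Fin v), (fun s : Finset (Fin v) => s.image e) '' B = M)
    (hM : AutFacts M n c) {α : Type*} [Fintype α] [DecidableEq α] (hα : Fintype.card α = v)
    {B : Set (Finset α)} (hB : Cfsg.IsSteinerSystem t k B) :
    MulAction.IsMultiplyPretransitive (Cfsg.setSystemAut B) α n ∧
      ∀ x : Fin n ↪ α, Nat.card (MulAction.stabilizer (Cfsg.setSystemAut B) x) = c := by
  let a := Fintype.equivFinOfCardEq hα
  obtain ⟨e, he⟩ := hnf _ (steiner_image hB a)
  rw [Set.image_image] at he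
  simp only [image_image] at he
  obtain ⟨f, hf⟩ := exists_mulEquiv_setSystemAut (B := B) (B' := M) (a.trans e) he
  have := hM.transitive
  exact ⟨isMultiplyPretransitive_congr f _ hf,
    fun x => (card_stabilizer_congr f _ hf x).trans (hM.card_stabilizer _)⟩

theorem aut12_facts {α : Type*} [Fintype α] [DecidableEq α] (hα : Fintype.card α = 12)
    {B : Set (Finset α)} (hB : Cfsg.IsSteinerSystem 5 6 B) :
    Cfsg.IsM12 (Cfsg.setSystemAut B) ∧
      MulAction.IsMultiplyPretransitive (Cfsg.setSystemAut B) α 5 ∧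
      ∀ x : Fin 5 ↪ α, MulAction.stabilizer (Cfsg.setSystemAut B) x = ⊥ := by
  obtain ⟨ht, hs⟩ := autFacts_transfer normalForm12 autFacts12 hα hB
  have hsharp : ∀ x : Fin 5 ↪ α, MulAction.stabilizer (Cfsg.setSystemAut B) x = ⊥ :=
    fun x => Subgroup.eq_bot_of_card_eq _ (hs x)
  exact ⟨simple_of_sharp5_degree12 (α := α) (by rw [Nat.card_eq_fintype_card, hα]) hsharp, ht,
    hsharp⟩

theorem aut11_facts {α : Type*} [Fintype α] [DecidableEq α] (hα : Fintype.card α = 11)
    {B : Set (Finset α)} (hB : Cfsg.IsSteinerSystem 4 5 B) :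
    Cfsg.IsM11 (Cfsg.setSystemAut B) ∧
      MulAction.IsMultiplyPretransitive (Cfsg.setSystemAut B) α 4 ∧
      ∀ x : Fin 4 ↪ α, MulAction.stabilizer (Cfsg.setSystemAut B) x = ⊥ := by
  obtain ⟨ht, hs⟩ := autFacts_transfer normalForm11 autFacts11 hα hB
  have hsharp : ∀ x : Fin 4 ↪ α, MulAction.stabilizer (Cfsg.setSystemAut B) x = ⊥ :=
    fun x => Subgroup.eq_bot_of_card_eq _ (hs x)
  exact ⟨simple_of_sharp4_degree11 (α := α) (by rw [Nat.card_eq_fintype_card, hα]) hsharp, ht,
    hsharp⟩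

end Cfsg.Agent.Steiner
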