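import Mathlib
import Cfsg.Prelude.Def_Sporadic
import Cfsg.Agent.Lib.Steiner.Unique24
import Cfsg.Agent.Lib.Steiner.AutSearch
import Cfsg.Agent.Lib.Golay.Simple
import Cfsg.Agent.S0351

set_option autoImplicit false

/-! Automorphism groups of `S(5, 8, 24)` and `S(4, 7, 23)`. -/

namespace Cfsg.Agent.Steiner

open Finset

theorem image_mem_of_mem_aut {α : Type*} [Fintype α] [DecidableEq α] {B : Set (Finset α)}
    {σ : Equiv.Perm α} (hσ : σ ∈ Cfsg.setSystemAut B) {b : Finset α} (hb : b ∈ B) :
    b.image σ ∈ B := (mem_setSystemAut.mp hσ).subset ⟨b, hb, rfl⟩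

section Derived

variable {α : Type*} [Fintype α] [DecidableEq α]

/-- The system derived at a point. -/
def derivedAt (B : Set (Finset α)) (p : α) : Set (Finset {a : α // a ≠ p}) :=
  {b' | ∃ b ∈ B, p ∈ b ∧ b' = Finset.subtype (fun a => a ≠ p) b}

theorem steiner_derivedAt {t k : ℕ} {B : Set (Finset α)}
    (hB : Cfsg.IsSteinerSystem (t + 1) (k + 1) B) (p : α) :
    Cfsg.IsSteinerSystem t k (derivedAt B p) := Cfsg.Agent.S0351.result hB p

theorem card_ne_subtype (p : α) : Fintype.card {a : α // a ≠ p} = Fintype.card α - 1 := by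
  rw [Fintype.card_subtype_compl, Fintype.card_subtype_eq]

/-- An automorphism fixing `p`, as a permutation of the other points. -/
def restrictPerm (B : Set (Finset α)) (p : α)
    (g : MulAction.stabilizer (Cfsg.setSystemAut B) p) : Equiv.Perm {a : α // a ≠ p} :=
  ((g : Cfsg.setSystemAut B) : Equiv.Perm α).subtypePerm (fun a => by
    have h : ((g : Cfsg.setSystemAut B) : Equiv.Perm α) p = p := g.2
    constructor
    · intro ha hh; exact ha (hh ▸ h)
    · intro ha hh; exact ha (((g : Cfsg.setSystemAut B) : Equiv.Perm α).injective (hh.trans h.symm)))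

@[simp] theorem restrictPerm_apply (B : Set (Finset α)) (p : α)
    (g : MulAction.stabilizer (Cfsg.setSystemAut B) p) (a : {a : α // a ≠ p}) :
    (restrictPerm B p g a : α) = ((g : Cfsg.setSystemAut B) : Equiv.Perm α) a := rfl

theorem subtype_image_perm {B : Set (Finset α)} {p : α} {g : Equiv.Perm α}
    {σ : Equiv.Perm {a : α // a ≠ p}} (hσ : ∀ a, (σ a : α) = g a) (b : Finset α) :
    (Finset.subtype (fun a => a ≠ p) b).image σ = Finset.subtype (fun a => a ≠ p) (b.image g) := by
  ext x
  simp only [mem_image, Finset.mem_subtype]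
  constructor
  · rintro ⟨a, ha, rfl⟩
    exact ⟨a, ha, (hσ a).symm⟩
  · rintro ⟨a, ha, he⟩
    refine ⟨σ.symm x, ?_, σ.apply_symm_apply x⟩
    have : g (σ.symm x : α) = g a := by rw [← hσ, σ.apply_symm_apply, he]
    rw [g.injective this]
    exact ha

theorem restrictPerm_mem (B : Set (Finset α)) (p : α)
    (g : MulAction.stabilizer (Cfsg.setSystemAut B) p) :
    restrictPerm B p g ∈ Cfsg.setSystemAut (derivedAt B p) := by
  rw [mem_setSystemAut]
  refine Set.eq_of_subset_of_ncard_le ?_ ?_ (Set.toFinite _)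
  · rintro _ ⟨_, ⟨b, hb, hp, rfl⟩, rfl⟩
    refine ⟨b.image ((g : Cfsg.setSystemAut B) : Equiv.Perm α), ?_, ?_,
      subtype_image_perm (B := B) (restrictPerm_apply B p g) b⟩
    · exact image_mem_of_mem_aut (g : Cfsg.setSystemAut B).2 hb
    · exact mem_image.mpr ⟨p, hp, g.2⟩
  · rw [Set.ncard_image_of_injective _ (Finset.image_injective (restrictPerm B p g).injective)]

/-- Restriction to the derived system. -/
def restrictHom (B : Set (Finset α)) (p : α) :
    MulAction.stabilizer (Cfsg.setSystemAut B) p →* Cfsg.setSystemAut (derivedAt B p) where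
  toFun g := ⟨restrictPerm B p g, restrictPerm_mem B p g⟩
  map_one' := rfl
  map_mul' _ _ := rfl

theorem restrictHom_injective (B : Set (Finset α)) (p : α) :
    Function.Injective (restrictHom B p) := by
  intro g h e
  refine Subtype.ext (Subtype.ext (Equiv.ext fun a => ?_))
  by_cases ha : a = p
  · subst ha; exact g.2.trans h.2.symm
  · exact congrArg Subtype.val (Equiv.congr_fun (congrArg Subtype.val e) ⟨a, ha⟩)

end Derived

theorem octads_aut_transitive :
    MulAction.IsMultiplyPretransitive (Cfsg.setSystemAut Cfsg.octads) Cfsg.GolayPt 5 := by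
  rw [← Cfsg.Agent.Golay.M24_eq_octad_aut]
  exact Cfsg.Agent.Golay.five_transitive

theorem aut24_facts {α : Type*} [Fintype α] [DecidableEq α] (hα : Fintype.card α = 24)
    {B : Set (Finset α)} (hB : Cfsg.IsSteinerSystem 5 8 B) :
    Cfsg.IsM24 (Cfsg.setSystemAut B) ∧
      MulAction.IsMultiplyPretransitive (Cfsg.setSystemAut B) α 5 := by
  obtain ⟨e, he⟩ := setSystemIso24 hα Cfsg.Agent.Golay.card_golayPt hB
    Cfsg.Agent.Golay.octads_steiner
  obtain ⟨f, hf⟩ := exists_mulEquiv_setSystemAut e he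
  have := octads_aut_transitive
  let f' := f.trans (MulEquiv.subgroupCongr Cfsg.Agent.Golay.M24_eq_octad_aut.symm)
  exact ⟨⟨f'.isSimpleGroup_congr.2 Cfsg.Agent.Golay.isSimpleGroup_M24,
    (Nat.card_congr f'.toEquiv).trans Cfsg.Agent.Golay.card_M24⟩,
    isMultiplyPretransitive_congr f e hf⟩

/-- Every automorphism of a derived `S(4, 7, 23)` extends to the `S(5, 8, 24)`. -/
theorem restrictHom_surjective {α : Type*} [Fintype α] [DecidableEq α]
    (hα : Fintype.card α = 24) {B : Set (Finset α)} (hB : Cfsg.IsSteinerSystem 5 8 B) (p : α) :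
    Function.Surjective (restrictHom B p) := by
  intro σ
  set g : Equiv.Perm α := Equiv.Perm.ofSubtype (σ : Equiv.Perm {a : α // a ≠ p}) with hg
  have hgp : g p = p := Equiv.Perm.ofSubtype_apply_of_not_mem _ (by simp)
  have hga : ∀ a : {a : α // a ≠ p}, ((σ : Equiv.Perm {a : α // a ≠ p}) a : α) = g a := fun a =>
    (Equiv.Perm.ofSubtype_apply_coe _ a).symm
  have hkey : ∀ b ∈ B, p ∈ b → b.image g ∈ B := by
    intro b hb hp
    have hmem : Finset.subtype (fun a => a ≠ p) b ∈ derivedAt B p := ⟨b, hb, hp, rfl⟩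
    obtain ⟨c, hc, hpc, hce⟩ : (Finset.subtype (fun a => a ≠ p) b).image
        (σ : Equiv.Perm {a : α // a ≠ p}) ∈ derivedAt B p :=
      image_mem_of_mem_aut σ.2 hmem
    rw [subtype_image_perm (B := B) hga] at hce
    suffices b.image g = c by rw [this]; exact hc
    ext x
    by_cases hx : x = p
    · subst hx
      exact iff_of_true (mem_image.mpr ⟨x, hp, hgp⟩) hpc
    · have := Finset.ext_iff.mp hce ⟨x, hx⟩
      simpa [Finset.mem_subtype] using this
  have hgmem : g ∈ Cfsg.setSystemAut B := by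
    rw [mem_setSystemAut]
    have hB' := steiner_image hB g
    refine (steiner_eq_of_subset hB' hB (by decide) ?_)
    refine s24_subset hα hB' hB (p := p) ?_
    rintro _ ⟨b, hb, rfl⟩ hp
    obtain ⟨a, ha, hap⟩ := mem_image.mp hp
    have : a = p := g.injective (hap.trans hgp.symm)
    subst this
    exact hkey b hb ha
  refine ⟨⟨⟨g, hgmem⟩, hgp⟩, Subtype.ext (Equiv.ext fun a => Subtype.ext (hga a).symm)⟩

theorem aut23_facts {α : Type*} [Fintype α] [DecidableEq α] (hα : Fintype.card α = 23)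
    {B : Set (Finset α)} (hB : Cfsg.IsSteinerSystem 4 7 B) :
    Cfsg.IsM23 (Cfsg.setSystemAut B) ∧
      MulAction.IsMultiplyPretransitive (Cfsg.setSystemAut B) α 4 := by
  obtain ⟨e, he⟩ := setSystemIso_of_normalForm normalForm23 hα
    (by rw [card_ne_subtype, Cfsg.Agent.Golay.card_golayPt]) hB
    (steiner_derivedAt Cfsg.Agent.Golay.octads_steiner none)
  obtain ⟨f, hf⟩ := exists_mulEquiv_setSystemAut e he
  let r := MulEquiv.ofBijective (restrictHom Cfsg.octads none)
    ⟨restrictHom_injective _ _,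
      restrictHom_surjective Cfsg.Agent.Golay.card_golayPt Cfsg.Agent.Golay.octads_steiner none⟩
  have hst : Nonempty (MulAction.stabilizer (Cfsg.setSystemAut Cfsg.octads) (none : Cfsg.GolayPt) ≃*
      MulAction.stabilizer Cfsg.M24 (none : Cfsg.GolayPt)) := by
    rw [Cfsg.Agent.Golay.M24_eq_octad_aut]; exact ⟨MulEquiv.refl _⟩
  obtain ⟨m⟩ := hst
  let f' := f.trans (r.symm.trans m)
  have h4 : MulAction.IsMultiplyPretransitive (Cfsg.setSystemAut (derivedAt Cfsg.octads none))
      {a : Cfsg.GolayPt // a ≠ none} 4 := by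
    have := octads_aut_transitive
    constructor
    intro x y
    let ext5 : (Fin 4 ↪ {a : Cfsg.GolayPt // a ≠ none}) → (Fin 5 ↪ Cfsg.GolayPt) := fun z =>
      ⟨Fin.cons none (fun i => (z i : Cfsg.GolayPt)), Fin.cons_injective_iff.mpr
        ⟨by rintro ⟨i, hi⟩; exact (z i).2 hi, Subtype.val_injective.comp z.injective⟩⟩
    obtain ⟨g, hg⟩ := MulAction.exists_smul_eq (Cfsg.setSystemAut Cfsg.octads) (ext5 x) (ext5 y)
    have h0 : g • (none : Cfsg.GolayPt) = none := DFunLike.congr_fun hg 0
    refine ⟨restrictHom Cfsg.octads none ⟨g, h0⟩, ?_⟩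
    refine DFunLike.ext _ _ fun i => Subtype.ext ?_
    exact DFunLike.congr_fun hg i.succ
  exact ⟨⟨f'.isSimpleGroup_congr.2 (Cfsg.Agent.Golay.isSimpleGroup_stabilizer (none : Cfsg.GolayPt)),
    (Nat.card_congr f'.toEquiv).trans (Cfsg.Agent.Golay.card_stabilizer (none : Cfsg.GolayPt))⟩,
    isMultiplyPretransitive_congr f e hf⟩

end Cfsg.Agent.Steiner
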