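import Mathlib
import Cfsg.Prelude.Def_Sporadic
import Cfsg.Agent.Lib.Steiner.AutWitt
import Cfsg.Agent.Lib.Steiner.Aut22

set_option autoImplicit false

/-! The automorphism group of an `S(3, 6, 22)`. -/

namespace Cfsg.Agent.Steiner

open Finset

theorem normalForm22' (B : Set (Finset (Fin 22))) (hB : Cfsg.IsSteinerSystem 3 6 B) :
    ∃ e : Equiv.Perm (Fin 22),
      (fun s : Finset (Fin 22) => s.image e) '' B = decSet 22 autModel22 := by
  obtain ⟨e, he⟩ := normalForm22 B hB
  obtain ⟨hperm, hlen⟩ := autModel22_perm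
  obtain ⟨ρ, -, hρ⟩ := exists_perm_of_isPerm hperm
  refine ⟨e.trans ρ, ?_⟩
  have h1 : (fun s : Finset (Fin 22) => s.image ρ) '' decSet 22 model22 ⊆
      decSet 22 autModel22 := by
    rintro _ ⟨_, ⟨b, hb, rfl⟩, rfl⟩
    have := List.all_eq_true.mp autModel22_eq b hb
    rw [List.contains_iff_mem] at this
    exact ⟨_, this, hρ b⟩
  have h2 : (decSet 22 autModel22).ncard ≤ (decSet 22 model22).ncard := by
    have hcard : ∀ M : List ℕ, decSet 22 M = ↑(M.toFinset.image (dec 22)) := fun M => by
      ext s; simp [decSet]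
    have h77 : (decSet 22 model22).ncard = 77 := by
      have hc : (blocksOf B).card = 77 := s22_card (Fintype.card_fin 22) hB
      rw [← he, Set.ncard_image_of_injective _ (Finset.image_injective e.injective), ← hc,
        ← Set.ncard_coe_finset]
      congr 1
      ext; simp
    have h77' : (decSet 22 autModel22).ncard ≤ autModel22.length := by
      rw [hcard, Set.ncard_coe_finset]
      exact card_image_le.trans autModel22.toFinset_card_le
    have : model22.length = 77 := by decide +kernel
    omega
  have h3 : (fun s : Finset (Fin 22) => s.image ρ) '' decSet 22 model22 =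
      decSet 22 autModel22 := by
    refine Set.eq_of_subset_of_ncard_le h1 ?_ (Set.toFinite _)
    rwa [Set.ncard_image_of_injective _ (Finset.image_injective ρ.injective)]
  rw [← h3, ← he, Set.image_image]
  simp only [image_image]
  rfl

theorem transitive22 :
    MulAction.IsMultiplyPretransitive (Cfsg.setSystemAut (decSet 22 autModel22)) (Fin 22) 3 := by
  refine transitive_of_levels (trans := autTrans22) (by decide)
    (List.all_eq_true.mp autTrans22_ok) fun i hi p hp => ?_
  rcases Nat.lt_or_ge p i with h | h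
  · exact Or.inl h
  refine Or.inr ?_
  have hlev : ∀ orb, checkLevel 22 3 autModel22 autTrans22 i orb = true → p ∈ orb →
      ∃ π ∈ autTrans22, π.getD i 0 = p ∧ ∀ j < i, π.getD j 0 = j := by
    intro orb hl hpo
    simp only [checkLevel, Bool.and_eq_true, List.all_eq_true, List.any_eq_true, beq_iff_eq,
      List.mem_range] at hl
    obtain ⟨-, π, hπ, h1, h2⟩ := hl.1.2 p hpo
    exact ⟨π, hπ, h1, h2⟩
  interval_cases i
  · exact hlev _ level22_0 (by interval_cases p <;> simp)
  · exact hlev _ level22_1 (by interval_cases p <;> simp)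
  · exact hlev _ level22_2 (by interval_cases p <;> simp)

theorem card_aut22 : Nat.card (Cfsg.setSystemAut (decSet 22 autModel22)) = 887040 := by
  have h0 : fixFirst (decSet 22 autModel22) 0 = ⊤ :=
    eq_top_iff.mpr fun g _ j hj => absurd hj (Nat.not_lt_zero _)
  have := card_fixFirst_succ autModel22_lt autTrans22_ok level22_0
  rw [h0, Subgroup.card_top] at this
  rw [this, card_fixFirst_succ autModel22_lt autTrans22_ok level22_1,
    card_fixFirst_succ autModel22_lt autTrans22_ok level22_2,
    card_fixFirst_succ autModel22_lt autTrans22_ok level22_3,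
    card_fixFirst_succ autModel22_lt autTrans22_ok level22_4,
    card_fixFirst_succ autModel22_lt autTrans22_ok level22_5,
    card_fixFirst_succ autModel22_lt autTrans22_ok level22_6,
    card_fixFirst_bottom autModel22_lt bottom22]
  rfl

theorem exists_M22_subgroup :
    ∃ (P : Type) (_ : Fintype P) (_ : DecidableEq P) (D : Set (Finset P)),
      Fintype.card P = 22 ∧ Cfsg.IsSteinerSystem 3 6 D ∧
      ∃ H : Subgroup (Cfsg.setSystemAut D), Cfsg.IsM22 H := by
  let D1 := derivedAt Cfsg.octads (none : Cfsg.GolayPt)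
  let q : {a : Cfsg.GolayPt // a ≠ none} := ⟨some 0, by simp⟩
  have hD1 : Cfsg.IsSteinerSystem 4 7 D1 :=
    steiner_derivedAt Cfsg.Agent.Golay.octads_steiner none
  refine ⟨{a : {a : Cfsg.GolayPt // a ≠ none} // a ≠ q}, inferInstance, inferInstance,
    derivedAt D1 q, by rw [card_ne_subtype, card_ne_subtype, Cfsg.Agent.Golay.card_golayPt],
    steiner_derivedAt hD1 q, ?_⟩
  let S : Subgroup Cfsg.M24 := MulAction.stabilizer Cfsg.M24 (none : Cfsg.GolayPt) ⊓
    MulAction.stabilizer Cfsg.M24 (some 0 : Cfsg.GolayPt)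
  have hle : ∀ g : S, ((g : Cfsg.M24) : Equiv.Perm Cfsg.GolayPt) ∈
      Cfsg.setSystemAut Cfsg.octads := fun g => by
    have h := (g : Cfsg.M24).2
    simp only [Cfsg.Agent.Golay.M24_eq_octad_aut] at h
    exact h
  let A : S →* MulAction.stabilizer (Cfsg.setSystemAut Cfsg.octads) (none : Cfsg.GolayPt) :=
    { toFun := fun g => ⟨⟨((g : Cfsg.M24) : Equiv.Perm Cfsg.GolayPt), hle g⟩, g.2.1⟩
      map_one' := rfl
      map_mul' := fun _ _ => rfl }
  let A' : S →* MulAction.stabilizer (Cfsg.setSystemAut D1) q :=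
    { toFun := fun g => ⟨restrictHom Cfsg.octads none (A g), Subtype.ext g.2.2⟩
      map_one' := rfl
      map_mul' := fun _ _ => rfl }
  have hA' : Function.Injective A' := by
    intro g h e
    have h1 := restrictHom_injective _ _ (congrArg Subtype.val e)
    have h2 : ((g : Cfsg.M24) : Equiv.Perm Cfsg.GolayPt) = ((h : Cfsg.M24) : Equiv.Perm Cfsg.GolayPt) :=
      congrArg (fun z => ((z : Cfsg.setSystemAut Cfsg.octads) : Equiv.Perm Cfsg.GolayPt))
        (congrArg Subtype.val h1)
    exact Subtype.ext (Subtype.ext h2)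
  let F := (restrictHom D1 q).comp A'
  have hF : Function.Injective F := (restrictHom_injective _ _).comp hA'
  refine ⟨F.range, ?_, ?_⟩
  · exact (MonoidHom.ofInjective hF).symm.isSimpleGroup_congr.2
      (Cfsg.Agent.Golay.isSimpleGroup_stabilizer_two none (some 0) (by simp))
  · rw [← Nat.card_congr (MonoidHom.ofInjective hF).toEquiv]
    exact Cfsg.Agent.Golay.card_stabilizer_two none (some 0) (by simp)

theorem exists_equiv_model22 {β : Type*} [Fintype β] [DecidableEq β] (hβ : Fintype.card β = 22)
    {C : Set (Finset β)} (hC : Cfsg.IsSteinerSystem 3 6 C) :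
    ∃ (e : β ≃ Fin 22) (f : Cfsg.setSystemAut C ≃* Cfsg.setSystemAut (decSet 22 autModel22)),
      ∀ g a, f g • e a = e (g • a) := by
  let a := Fintype.equivFinOfCardEq hβ
  obtain ⟨e, he⟩ := normalForm22' _ (steiner_image hC a)
  rw [Set.image_image] at he
  simp only [image_image] at he
  exact ⟨a.trans e, exists_mulEquiv_setSystemAut (a.trans e) he⟩

theorem aut22_facts {α : Type*} [Fintype α] [DecidableEq α] (hα : Fintype.card α = 22)
    {B : Set (Finset α)} (hB : Cfsg.IsSteinerSystem 3 6 B) :
    Nat.card (Cfsg.setSystemAut B) = 887040 ∧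
      MulAction.IsMultiplyPretransitive (Cfsg.setSystemAut B) α 3 ∧
      ∃ H : Subgroup (Cfsg.setSystemAut B), H.index = 2 ∧ Cfsg.IsM22 H := by
  obtain ⟨e, f, hf⟩ := exists_equiv_model22 hα hB
  have := transitive22
  have hcard : Nat.card (Cfsg.setSystemAut B) = 887040 :=
    (Nat.card_congr f.toEquiv).trans card_aut22
  refine ⟨hcard, isMultiplyPretransitive_congr f e hf, ?_⟩
  obtain ⟨P, _, _, D, hP, hD, H, hHs, hHc⟩ := exists_M22_subgroup
  obtain ⟨eD, fD, -⟩ := exists_equiv_model22 hP hD
  let m := fD.trans f.symm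
  have hmap : Nat.card (H.map (m : _ →* Cfsg.setSystemAut B)) = 443520 := by
    rw [Subgroup.card_map_of_injective m.injective, hHc]
  refine ⟨H.map (m : _ →* Cfsg.setSystemAut B), ?_, ?_, hmap⟩
  · have := Subgroup.card_mul_index (H.map (m : _ →* Cfsg.setSystemAut B))
    rw [hmap, hcard] at this
    omega
  · exact (H.equivMapOfInjective _ m.injective).symm.isSimpleGroup_congr.2 hHs

end Cfsg.Agent.Steiner
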